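import Cfsg.Agent.WeakClosed.TorusCore

/-!
A strict offender in a group with a strongly `p`-embedded subgroup: let `G` act faithfully on a
finite abelian `p`-group `V`, let `M < G` contain a strict quadratic offender `B` and meet its other
conjugates in `p'`-subgroups.  Then `B` is a Sylow `p`-subgroup, normal in `M`, and the
`p`-elements generate a subgroup isomorphic to `SL₂(q)` acting naturally on `V` modulo its fixed
points.

Proof: every `L` minimal over `B` outside `M` is natural `SL₂(q)`.  Hence a nonzero commutator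
`z = [v, b]` is fixed by no such `L`, so `C(z) ≤ M`; as the `L`-conjugates of `C_V(B)` cover `V`
this gives `G = LM` and `M z ⊆ C_V(B)`, so the conjugates of `B` in `M` commute with `B`.
-/

set_option autoImplicit false

namespace CfsgLib.SL2Recognition

open Subgroup Matrix CfsgLib.WeakClosed.Torus CfsgLib.Linear
open scoped MatrixGroups

variable {G V : Type*} [Group G] [AddCommGroup V] {σ : G →* AddMonoid.End V} {p : ℕ}

/-- A `p`-element of `M` with a conjugate in `M` is conjugated by an element of `M`. -/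
def IsTI (p : ℕ) (M : Subgroup G) : Prop :=
  ∀ g x : G, x ∈ M → x ≠ 1 → (∃ k : ℕ, x ^ p ^ k = 1) → g * x * g⁻¹ ∈ M → g ∈ M

/-- `L` is `SL₂(q)` with root group `B`, natural on `V` modulo its fixed points. -/
structure IsRootPair (σ : G →* AddMonoid.End V) (M B L : Subgroup G) : Prop where
  le : B ≤ L
  not_le : ¬ L ≤ M
  gen : ∀ x ∈ L, x ∉ M → B ⊔ B.map (MulAut.conj x).toMonoidHom = L
  semireg : ∀ b ∈ B, b ≠ 1 → ∀ v : V, σ b v = v → v ∈ fix σ B
  moved : ∀ b ∈ B, b ≠ 1 → ∀ v : V, σ b v - v ∈ fix σ L → v ∈ fix σ B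
  cover : ∀ v : V, ∃ l ∈ L, σ l⁻¹ v ∈ fix σ B
  norm : ∀ l ∈ L, l ∈ M → l ∈ normalizer (B : Set G)
  trans : ∀ x ∈ L, ∀ l ∈ L, x ∉ M → l ∉ M → ∃ b ∈ B, (b * x)⁻¹ * l ∈ M
  natural : ∃ (F : Type) (_ : Field F) (_ : Fintype F) (φ : L ≃* SL(2, F)) (ψ : V →+ (Fin 2 → F)),
    Fintype.card F = Nat.card B ∧ Function.Surjective ψ ∧ (∀ v, ψ v = 0 ↔ v ∈ fix σ L) ∧
      ∀ (g : L) v, ψ (σ g v) = (φ g).1 *ᵥ ψ v

theorem exists_shift {F : Type*} [Field F] {w c d : Fin 2 → F} (hw : w ≠ 0)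
    (hc : ∀ r : F, c ≠ r • w) (hd : ∀ r : F, d ≠ r • w) :
    ∃ s : SL(2, F), s.1 *ᵥ w = w ∧ ∃ r : F, r ≠ 0 ∧ s.1 *ᵥ d = r • c := by
  obtain ⟨C, hC⟩ := exists_col hw
  have key : ∀ v, C.1 *ᵥ ((C⁻¹).1 *ᵥ v) = v := fun v => by
    rw [mulVec_mulVec, ← Matrix.SpecialLinearGroup.coe_mul, mul_inv_cancel]; simp
  set c' := (C⁻¹).1 *ᵥ c with hc'
  set d' := (C⁻¹).1 *ᵥ d with hd'
  have h1 : ∀ (v : Fin 2 → F), (∀ r : F, v ≠ r • w) → ((C⁻¹).1 *ᵥ v) 1 ≠ 0 := by
    intro v hv h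
    refine hv (((C⁻¹).1 *ᵥ v) 0) ?_
    obtain ⟨u, hu⟩ : ∃ u, u = (C⁻¹).1 *ᵥ v := ⟨_, rfl⟩
    rw [← hu] at h ⊢
    have e : u = u 0 • ![1, 0] := by ext i; fin_cases i <;> simp [h]
    conv_lhs => rw [← key v, ← hu, e, mulVec_smul, hC]
  have hc1 := h1 c hc
  have hd1 := h1 d hd
  rw [← hd'] at hd1
  rw [← hc'] at hc1
  refine ⟨C * upperUni ((d' 1 / c' 1 * c' 0 - d' 0) / d' 1) * C⁻¹, ?_, d' 1 / c' 1,
    div_ne_zero hd1 hc1, ?_⟩
  · have e : (C⁻¹).1 *ᵥ w = ![1, 0] := by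
      rw [← hC, mulVec_mulVec, ← Matrix.SpecialLinearGroup.coe_mul, inv_mul_cancel]; simp
    rw [Matrix.SpecialLinearGroup.coe_mul, Matrix.SpecialLinearGroup.coe_mul, ← mulVec_mulVec,
      ← mulVec_mulVec, e, upperUni_mulVec]
    simp [hC]
  · rw [Matrix.SpecialLinearGroup.coe_mul, Matrix.SpecialLinearGroup.coe_mul, ← mulVec_mulVec,
      ← mulVec_mulVec, ← hd', upperUni_mulVec]
    have e : ![d' 0 + (d' 1 / c' 1 * c' 0 - d' 0) / d' 1 * d' 1, d' 1] = (d' 1 / c' 1) • c' := by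
      ext i; fin_cases i
      · simp [div_mul_cancel₀ _ hd1]
      · simp [div_mul_cancel₀ _ hc1]
    rw [e, mulVec_smul, hc', key]

variable [Finite G] [Finite V] [Fact p.Prime] {M B : Subgroup G}

theorem exists_pow_eq_one {P : Subgroup G} (hP : IsPGroup p P) {x : G} (hx : x ∈ P) :
    ∃ k : ℕ, x ^ p ^ k = 1 := by
  obtain ⟨k, hk⟩ := hP ⟨x, hx⟩
  exact ⟨k, congrArg Subtype.val hk⟩

theorem not_conj_le (hTI : IsTI p M) (hB : IsStrict σ p B) (hBM : B ≤ M) {x : G} (hx : x ∉ M) :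
    ¬ B.map (MulAut.conj x).toMonoidHom ≤ M := fun hle => by
  obtain ⟨b, hb, hb1⟩ := B.bot_or_exists_ne_one.resolve_left hB.ne_bot
  exact hx (hTI x b (hBM hb) hb1 (exists_pow_eq_one hB.pgroup hb) (hle (mem_map_of_mem _ hb)))

/-- Every subgroup `K ⊇ B` outside `M` contains a root pair. -/
theorem exists_rootPair (hinj : Function.Injective σ) (hTI : IsTI p M) (hB : IsStrict σ p B)
    (hBM : B ≤ M) {K : Subgroup G} (hBK : B ≤ K) (hKM : ¬ K ≤ M) :
    ∃ L : Subgroup G, L ≤ K ∧ IsRootPair σ M B L := by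
  classical
  obtain ⟨L, ⟨hBL, hLK, hLM⟩, hmin⟩ := Set.exists_min_image
    {L : Subgroup G | B ≤ L ∧ L ≤ K ∧ ¬ L ≤ M} (fun L => Nat.card L)
    (Set.toFinite _) ⟨K, hBK, le_rfl, hKM⟩
  have hprop : ∀ X : Subgroup G, B ≤ X → X < L → X ≤ M := by
    intro X hBX hXL
    by_contra hXM
    exact hXL.ne (eq_of_le_of_card_ge hXL.le (hmin X ⟨hBX, hXL.le.trans hLK, hXM⟩))
  set L₀ := M.subgroupOf L with hL₀
  set B' := B.subgroupOf L with hB'
  let σL : L →* AddMonoid.End V := σ.comp L.subtype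
  have hmaxL : ∀ X : Subgroup L, B' ≤ X → X ≠ ⊤ → X ≤ L₀ := by
    intro X hBX hX y hy
    refine hprop (X.map L.subtype) (fun b hb => ⟨⟨b, hBL hb⟩, hBX hb, rfl⟩)
      (lt_of_le_of_ne (map_subtype_le X) fun e => hX ?_) ⟨y, hy, rfl⟩
    exact map_injective L.subtype_injective (by rw [e, ← MonoidHom.range_eq_map, range_subtype])
  have hB'L₀ : B' ≤ L₀ := fun y hy => hBM hy
  have hL₀ne : L₀ ≠ ⊤ := fun e => hLM (subgroupOf_eq_top.1 e)
  have hcoat : IsCoatom L₀ :=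
    ⟨hL₀ne, fun X hX => by_contra fun hne => hX.not_ge (hmaxL X (hB'L₀.trans hX.le) hne)⟩
  have hgenL : ∀ x : L, x ∉ L₀ → B' ⊔ B'.map (MulAut.conj x).toMonoidHom = ⊤ := by
    intro x hx
    by_contra hne
    refine not_conj_le hTI hB hBM (x := (x : G)) hx ?_
    rintro _ ⟨b, hb, rfl⟩
    exact hmaxL _ le_sup_left hne
      (le_sup_right (a := B') ⟨⟨b, hBL hb⟩, hb, rfl⟩ :
        x * ⟨b, hBL hb⟩ * x⁻¹ ∈ B' ⊔ B'.map (MulAut.conj x).toMonoidHom)
  obtain ⟨x₀, hx₀⟩ : ∃ x : L, x ∉ L₀ := by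
    by_contra h
    push Not at h
    exact hL₀ne (eq_top_iff.2 fun x _ => h x)
  obtain ⟨TL, hTL⟩ := (hB.pgroup.comap_subtype (K := L)).exists_le_sylow
  have hTLne : (TL : Subgroup L) ≠ ⊤ := by
    intro e
    haveI : Group.IsNilpotent L :=
      ((IsPGroup.of_equiv (e ▸ TL.isPGroup') Subgroup.topEquiv : IsPGroup p L)).isNilpotent
    haveI : L₀.Normal := Subgroup.NormalizerCondition.normal_of_coatom _
      Group.normalizerCondition_of_isNilpotent hcoat
    refine hL₀ne (top_le_iff.1 ((hgenL x₀ hx₀).ge.trans (sup_le hB'L₀ ?_)))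
    rintro _ ⟨b, hb, rfl⟩
    exact (inferInstance : L₀.Normal).conj_mem b (hB'L₀ hb) x₀
  have huniq : ∀ N : Subgroup L, IsCoatom N → (TL : Subgroup L) ≤ N → N = L₀ := fun N hN hTN =>
    ((hN.le_iff.1 (hmaxL N (hTL.trans hTN) hN.1)).resolve_left hL₀ne).symm
  have hTL₀ : (TL : Subgroup L) ≤ L₀ := hmaxL _ hTL hTLne
  have hfixB : fix σL B' = fix σ B := AddSubgroup.ext fun v =>
    ⟨fun h b hb => h ⟨b, hBL hb⟩ hb, fun h b hb => h b hb⟩
  have hfixL : fix σL ⊤ = fix σ L := AddSubgroup.ext fun v =>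
    ⟨fun h l hl => h ⟨l, hl⟩ (mem_top _), fun h l _ => h l l.2⟩
  have hcardB : Nat.card B' = Nat.card B := Nat.card_congr (subgroupOfEquivOfLe hBL).toEquiv
  set C := fix σL ⊤ with hC
  set X := fix σL B' with hX
  have hCX : C ≤ X := fix_anti σL le_top
  -- `B` moves some vector fixed by it modulo the fixed points of `L`
  have hne : ∃ v ∈ X, v ∉ C := by
    by_contra h
    push Not at h
    have hBd : ∀ a ∈ B', ∀ u ∈ (⊤ : AddSubgroup V), σL a u - u ∈ C := fun a ha u _ =>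
      h _ fun a' ha' => hB.quad a' ha' a ha u
    have hd : ∀ g : L, ∀ u ∈ (⊤ : AddSubgroup V), σL g u - u ∈ C :=
      sub_mem_of_generate σL (hgenL x₀ hx₀) (fun _ _ _ => AddSubgroup.mem_top _) hBd (by
        rintro _ ⟨a, ha, rfl⟩ u -
        show σL (x₀ * a * x₀⁻¹) u - u ∈ C
        have h1 : σL a (σL x₀⁻¹ u) - σL x₀⁻¹ u ∈ C := hBd a ha _ (AddSubgroup.mem_top _)
        have e : σL (x₀ * a * x₀⁻¹) u - u = σL x₀ (σL a (σL x₀⁻¹ u) - σL x₀⁻¹ u) := by
          rw [map_sub, ← apply_mul, ← apply_mul, ← apply_mul, mul_inv_cancel, apply_one,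
            mul_assoc]
        rw [e, h1 x₀ (mem_top _)]
        exact h1)
    have hcomm : ∀ g k : L, g * k = k * g := fun g k => by
      refine (hinj.comp L.subtype_injective) (AddMonoidHom.ext fun v => ?_)
      show σL (g * k) v = σL (k * g) v
      have hg := hd g v (AddSubgroup.mem_top _)
      have hk := hd k v (AddSubgroup.mem_top _)
      rw [apply_mul, apply_mul, ← sub_add_cancel (σL k v) v, ← sub_add_cancel (σL g v) v,
        map_add, map_add, hk g (mem_top _), hg k (mem_top _)]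
      abel
    have e : B'.map (MulAut.conj x₀).toMonoidHom = B' := by
      conv_rhs => rw [← Subgroup.map_id B']
      congr 1
      ext y
      simp [hcomm x₀ y]
    have := hgenL x₀ hx₀
    rw [e, sup_idem] at this
    exact hL₀ne (top_le_iff.1 (this ▸ hB'L₀))
  -- the Sylow subgroup of `L` is `B`
  have hTLB : (TL : Subgroup L) = B' := by
    refine (eq_of_le_of_card_ge (H := B') hTL ?_).symm
    have hdisj : ∀ g k : L, g⁻¹ * k ∉ L₀ → ∀ v, σL g⁻¹ v ∈ X → σL k⁻¹ v ∈ X → v ∈ C := by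
      intro g k hgk v hv hv'
      have h1 : σL g⁻¹ v ∈ fix σL (B'.map (MulAut.conj (g⁻¹ * k)).toMonoidHom) :=
        (mem_fix_conj σL).2 (by
          rw [← apply_mul, show (g⁻¹ * k)⁻¹ * g⁻¹ = k⁻¹ by group]; exact hv')
      have h2 := mem_fix_of_generate σL (hgenL _ hgk) hv h1
      have h3 := h2 g (mem_top _)
      rw [apply_apply_inv] at h3
      rwa [← h3] at h2
    -- `TL` and `1` index pairwise disjoint sets
    have hcoset : ∀ s t : (TL : Subgroup L), s ≠ t → ((s : L) * x₀)⁻¹ * ((t : L) * x₀) ∉ L₀ := by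
      intro s t hst hm
      have e : ((s : L) * x₀)⁻¹ * ((t : L) * x₀) = x₀⁻¹ * ((s : L)⁻¹ * t) * x₀ := by group
      rw [e] at hm
      refine hx₀ (mem_subgroupOf.2 ?_)
      have hmem : (s : L)⁻¹ * t ∈ (TL : Subgroup L) := mul_mem (inv_mem s.2) t.2
      obtain ⟨k, hk⟩ := TL.isPGroup' ⟨_, hmem⟩
      have h1 := hTI ((x₀ : G)⁻¹) (((s : L)⁻¹ * t : L) : G) (mem_subgroupOf.1 (hTL₀ hmem))
        (fun h1 => hst (Subtype.ext (inv_mul_eq_one.1 (Subtype.ext h1 : (s : L)⁻¹ * t = 1))))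
        ⟨k, congrArg (fun z : (TL : Subgroup L) => ((z : L) : G)) hk⟩
        (by simpa [mul_assoc] using mem_subgroupOf.1 hm)
      simpa using inv_mem h1
    have hout : ∀ s : (TL : Subgroup L), ((s : L) * x₀) ∉ L₀ := fun s hm =>
      hx₀ (by simpa using mul_mem (inv_mem (hTL₀ s.2)) hm)
    haveI : Fintype V := Fintype.ofFinite V
    haveI : Fintype (TL : Subgroup L) := Fintype.ofFinite _
    let f : ↥(TL : Subgroup L) × {v : X // (v : V) ∉ C} → {v : V // v ∉ X} := fun r =>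
      ⟨σL ((r.1 : L) * x₀) r.2.1.1, fun hm => by
        have h1 := hdisj 1 ((r.1 : L) * x₀) (by simpa using hout r.1) (σL ((r.1 : L) * x₀) r.2.1.1)
          (by simpa [apply_one] using hm) (by rw [apply_inv_apply]; exact r.2.1.2)
        refine r.2.2 ?_
        have h2 := h1 ((r.1 : L) * x₀)⁻¹ (mem_top _)
        rw [apply_inv_apply] at h2
        rwa [h2]⟩
    have hf : Function.Injective f := by
      rintro ⟨s, v, hv⟩ ⟨t, u, hu⟩ h
      have h' : σL ((s : L) * x₀) v.1 = σL ((t : L) * x₀) u.1 := congrArg Subtype.val h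
      obtain rfl : s = t := by
        by_contra hst
        have h1 := hdisj ((s : L) * x₀) ((t : L) * x₀) (hcoset s t hst) (σL ((s : L) * x₀) v.1)
          (by rw [apply_inv_apply]; exact v.2) (by rw [h', apply_inv_apply]; exact u.2)
        refine hv ?_
        have h2 := h1 ((s : L) * x₀)⁻¹ (mem_top _)
        rw [apply_inv_apply] at h2
        rwa [h2]
      exact Prod.ext rfl (Subtype.ext (Subtype.ext (apply_injective σL _ h')))
    have hcard := Nat.card_le_card_of_injective f hf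
    rw [Nat.card_prod] at hcard
    have hsplit : ∀ U W : AddSubgroup V, U ≤ W →
        Nat.card {v : W // (v : V) ∉ U} + Nat.card U = Nat.card W := by
      intro U W hUW
      rw [← Nat.card_congr (Equiv.sumCompl (fun v : W => (v : V) ∈ U)), Nat.card_sum, add_comm]
      congr 1
      exact Nat.card_congr ⟨fun v => ⟨⟨v, hUW v.2⟩, v.2⟩, fun v => ⟨v.1, v.2⟩,
        fun _ => rfl, fun _ => rfl⟩
    have h1 := hsplit C X hCX
    have h2 := hsplit X ⊤ le_top
    rw [Nat.card_congr (Equiv.subtypeEquiv (Equiv.subtypeUnivEquiv (fun v : V => AddSubgroup.mem_top v))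
      (fun v => Iff.rfl) : {v : (⊤ : AddSubgroup V) // (v : V) ∉ X} ≃ {v : V // v ∉ X}),
      AddSubgroup.card_top] at h2
    have hlag : Nat.card C * 2 ≤ Nat.card X := by
      obtain ⟨d, hd⟩ := AddSubgroup.card_dvd_of_le hCX
      have hd0 : d ≠ 0 := fun e => by
        rw [e, mul_zero] at hd
        exact (Nat.card_pos (α := X)).ne' hd
      have hd1 : d ≠ 1 := fun e => by
        rw [e, mul_one] at hd
        obtain ⟨v, hv, hvC⟩ := hne
        exact hvC ((AddSubgroup.eq_of_le_of_card_ge hCX hd.le).ge hv)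
      rw [hd]; gcongr; omega
    have hVle : Nat.card V ≤ Nat.card B' * Nat.card X := by rw [hfixB, hcardB]; exact hB.le
    obtain ⟨n, hn⟩ := IsPGroup.iff_card.1 TL.isPGroup'
    obtain ⟨j, hj⟩ : ∃ j, Nat.card B' = p ^ j :=
      IsPGroup.iff_card.1 (hB.pgroup.comap_subtype (K := L) : IsPGroup p B')
    rw [hn, hj]
    refine Nat.pow_le_pow_right (Fact.out : p.Prime).pos ?_
    by_contra hnj
    push Not at hnj
    have h3 : 2 * Nat.card B' ≤ Nat.card (TL : Subgroup L) := by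
      rw [hn, hj]
      calc 2 * p ^ j ≤ p * p ^ j := Nat.mul_le_mul_right _ (Fact.out : p.Prime).two_le
        _ = p ^ (j + 1) := (pow_succ' p j).symm
        _ ≤ p ^ n := Nat.pow_le_pow_right (Fact.out : p.Prime).pos hnj
    have h4 : Nat.card B' * Nat.card X ≤
        Nat.card (TL : Subgroup L) * Nat.card {v : X // (v : V) ∉ C} := by
      calc Nat.card B' * Nat.card X
          ≤ Nat.card B' * (2 * Nat.card {v : X // (v : V) ∉ C}) :=
            Nat.mul_le_mul_left _ (by omega)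
        _ = (2 * Nat.card B') * Nat.card {v : X // (v : V) ∉ C} := by ring
        _ ≤ _ := Nat.mul_le_mul_right _ h3
    have := (Nat.card_pos (α := X))
    omega
  obtain ⟨v₀, hv₀, hv₀C⟩ := hne
  obtain ⟨F, _, _, φ, ψ, hcardF, hψs, hψ0, hψe, -⟩ := exists_natural_of_smul (p := p) σL
    (hinj.comp L.subtype_injective) TL L₀ hcoat hTL₀ huniq B' hTL
    (fun a ha b hb v => hB.quad a ha b hb v)
    (show Nat.card V ≤ Nat.card B' * Nat.card X by rw [hfixB, hcardB]; exact hB.le)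
    (fun A₀ h1 h2 h3 => by
      have e1 : Nat.card (A₀.map L.subtype) = Nat.card A₀ := card_map_of_injective L.subtype_injective
      have e2 : fix σL A₀ = fix σ (A₀.map L.subtype) := AddSubgroup.ext fun v =>
        ⟨fun h => by rintro _ ⟨b, hb, rfl⟩; exact h b hb, fun h b hb => h b ⟨b, hb, rfl⟩⟩
      show Nat.card A₀ * Nat.card (fix σL A₀) < Nat.card B' * Nat.card X
      rw [hfixB, hcardB, e2, ← e1]
      refine hB.strict _ (fun y hy => ?_) ?_ ?_
      · obtain ⟨z, hz, rfl⟩ := hy; exact h1 hz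
      · exact fun e => h2 ((map_eq_bot_iff_of_injective _ L.subtype_injective).1 e)
      · exact fun e => h3 (map_injective L.subtype_injective (e.trans (map_subgroupOf_eq_of_le hBL).symm)))
    ⟨v₀, fun g hg => hv₀ g (hTLB ▸ hg), hv₀C⟩ hgenL
    (fun a ha v => hB.smul a ha v)
  set w := ψ v₀ with hwdef
  have hw : w ≠ 0 := fun h => hv₀C ((hψ0 v₀).1 h)
  have hBw : ∀ b ∈ B', (φ b).1 *ᵥ w = w := fun b hb => by rw [hwdef, ← hψe, hv₀ b hb]
  -- `B'` is the whole stabiliser of `w`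
  have hstab : ∀ s : SL(2, F), s.1 *ᵥ w = w → ∃ b ∈ B', φ b = s := by
    obtain ⟨f, hf⟩ := exists_param hw
    have hsurj : Function.Surjective fun b : B' => f (φ b) := by
      refine ((Nat.bijective_iff_injective_and_card _).2 ⟨fun a b h => ?_, ?_⟩).2
      · exact Subtype.ext (φ.injective (hf _ _ (hBw a a.2) (hBw b b.2) h))
      · rw [← hcardF, Nat.card_eq_fintype_card]
    intro s hs
    obtain ⟨b, hb⟩ := hsurj (f s)
    exact ⟨b, b.2, hf _ _ (hBw b b.2) hs hb⟩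
  have hline : ∀ v ∈ X, ∃ r : F, ψ v = r • w := fun v hv => by
    obtain ⟨b₀, hb₀, hb₀1⟩ := B'.bot_or_exists_ne_one.resolve_left (fun e => hB.ne_bot (by
      rw [← map_subgroupOf_eq_of_le hBL]; show B'.map L.subtype = ⊥; rw [e, Subgroup.map_bot]))
    exact eq_smul_of_fix (fun e => hb₀1 ((map_eq_one_iff φ φ.injective).1 e)) hw (hBw b₀ hb₀)
      (by rw [← hψe, hv b₀ hb₀])
  -- elements fixing the line of `w` normalise `B'`
  have hlineN : ∀ (l : L) (r : F), (φ l).1 *ᵥ w = r • w →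
      l ∈ normalizer (B' : Set L) := by
    intro l r hl
    refine mem_normalizer_of_map_le ?_
    have hr : r ≠ 0 := by
      rintro rfl
      rw [zero_smul] at hl
      apply hw
      have h2 : ((φ l)⁻¹).1 *ᵥ ((φ l).1 *ᵥ w) = w := by
        rw [mulVec_mulVec, ← Matrix.SpecialLinearGroup.coe_mul, inv_mul_cancel]; simp
      rw [hl, mulVec_zero] at h2
      exact h2.symm
    rintro _ ⟨b, hb, rfl⟩
    have hfixed : (φ (l * b * l⁻¹)).1 *ᵥ w = w := by
      have hinv : ((φ l)⁻¹).1 *ᵥ w = r⁻¹ • w := by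
        have h1 : ((φ l)⁻¹).1 *ᵥ ((φ l).1 *ᵥ w) = w := by
          rw [mulVec_mulVec, ← Matrix.SpecialLinearGroup.coe_mul, inv_mul_cancel]; simp
        rw [hl, mulVec_smul] at h1
        conv_rhs => rw [← h1]
        rw [smul_smul, inv_mul_cancel₀ hr, one_smul]
      rw [map_mul, map_mul, map_inv, Matrix.SpecialLinearGroup.coe_mul,
        Matrix.SpecialLinearGroup.coe_mul, ← mulVec_mulVec, ← mulVec_mulVec, hinv, mulVec_smul,
        hBw b hb, mulVec_smul, hl, smul_smul, inv_mul_cancel₀ hr, one_smul]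
    obtain ⟨c, hc, hce⟩ := hstab _ hfixed
    show l * b * l⁻¹ ∈ B'
    rwa [← φ.injective hce]
  have hnormL₀ : ∀ l : L, l ∈ normalizer (B' : Set L) → l ∈ L₀ := fun l hl => by
    by_contra hl'
    have := hgenL l hl'
    have e : B'.map (MulAut.conj l).toMonoidHom = B' := mem_normalizer_iff_map_conj_eq.1 hl
    rw [e, sup_idem] at this
    exact hL₀ne (top_le_iff.1 (this ▸ hB'L₀))
  have hoff : ∀ l : L, l ∉ L₀ → ∀ r : F, (φ l).1 *ᵥ w ≠ r • w := fun l hl r h =>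
    hl (hnormL₀ l (hlineN l r h))
  have htr : ∀ x l : L, x ∉ L₀ → (∀ r : F, (φ l).1 *ᵥ w ≠ r • w) →
      ∃ b ∈ B', (b * x)⁻¹ * l ∈ L₀ := by
    intro x l hx hl
    obtain ⟨s, hs, r, hr, hsr⟩ := exists_shift hw hl (hoff x hx)
    obtain ⟨b, hb, rfl⟩ := hstab s hs
    refine ⟨b, hb, hnormL₀ _ (hlineN _ r⁻¹ ?_)⟩
    have h1 : (φ (b * x)).1 *ᵥ (r⁻¹ • w) = (φ l).1 *ᵥ w := by
      rw [mulVec_smul, map_mul, Matrix.SpecialLinearGroup.coe_mul, ← mulVec_mulVec, hsr, smul_smul,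
        inv_mul_cancel₀ hr, one_smul]
    rw [map_mul, Matrix.SpecialLinearGroup.coe_mul, ← mulVec_mulVec, ← h1, mulVec_mulVec,
      ← Matrix.SpecialLinearGroup.coe_mul, map_inv, inv_mul_cancel]
    simp
  have hline0 : ∀ l : L, l ∈ L₀ → ∃ r : F, (φ l).1 *ᵥ w = r • w := by
    intro l hl
    by_contra h
    push Not at h
    obtain ⟨b, hb, hbl⟩ := htr x₀ l hx₀ h
    refine hx₀ ?_
    have h2 : b * x₀ ∈ L₀ := by
      have := mul_mem hl (inv_mem hbl)
      simpa [mul_assoc] using this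
    simpa using mul_mem (inv_mem (hB'L₀ hb)) h2
  -- the fixed points of `B'` are the whole line
  have hXline : ∀ (v : V) (r : F), ψ v = r • w → v ∈ X := by
    intro v r hr
    by_cases hr0 : r = 0
    · exact hCX ((hψ0 v).1 (by rw [hr, hr0, zero_smul]))
    obtain ⟨C', hC'⟩ := exists_col hw
    set g := MulAut.conj C' (diag (Units.mk0 r hr0))
    have hgw : g.1 *ᵥ w = r • w := by
      show (C' * diag (Units.mk0 r hr0) * C'⁻¹).1 *ᵥ w = _
      rw [← hC', mulVec_mulVec, ← Matrix.SpecialLinearGroup.coe_mul,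
        inv_mul_cancel_right, Matrix.SpecialLinearGroup.coe_mul, ← mulVec_mulVec]
      have e : (diag (Units.mk0 r hr0)).1 *ᵥ ![1, 0] = r • ![1, 0] := by
        show !![((Units.mk0 r hr0 : Fˣ) : F), 0; 0, (((Units.mk0 r hr0)⁻¹ : Fˣ) : F)] *ᵥ ![1, 0] = _
        ext i; fin_cases i <;> simp
      rw [e, mulVec_smul]
    set k := φ.symm g
    have hk : k ∈ normalizer (B' : Set L) := hlineN k r (by rw [φ.apply_symm_apply, hgw])
    have h1 : σL k v₀ ∈ X := by
      have h := mem_normalizer_iff_map_conj_eq.1 hk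
      show σL k v₀ ∈ fix σL B'
      rw [← h]
      exact (mem_fix_conj σL).2 (by rw [apply_inv_apply]; exact hv₀)
    have h2 : v - σL k v₀ ∈ C := (hψ0 _).1 (by
      rw [map_sub, hψe, φ.apply_symm_apply, hgw, hr, sub_self])
    simpa using add_mem (hCX h2) h1
  refine ⟨L, hLK, ⟨hBL, hLM, ?_, ?_, ?_, ?_, ?_, ?_,
    ⟨F, inferInstance, inferInstance, φ, ψ, hcardF.trans hcardB, hψs,
      fun v => by rw [← hfixL]; exact hψ0 v, fun g v => hψe g v⟩⟩⟩
  · intro x hx hxM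
    have h := congrArg (Subgroup.map L.subtype) (hgenL ⟨x, hx⟩ hxM)
    rw [← MonoidHom.range_eq_map, range_subtype, Subgroup.map_sup,
      map_subgroupOf_eq_of_le hBL, Subgroup.map_map] at h
    rw [← h]
    congr 1
    conv_lhs => rw [← map_subgroupOf_eq_of_le hBL, Subgroup.map_map]
    rfl
  · intro b hb hb1 v hv
    obtain ⟨r, hr⟩ := eq_smul_of_fix (s := φ ⟨b, hBL hb⟩)
      (fun e => hb1 (congrArg Subtype.val ((map_eq_one_iff φ φ.injective).1 e))) hw
      (hBw _ hb) (show (φ ⟨b, hBL hb⟩).1 *ᵥ ψ v = ψ v by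
        rw [← hψe]; exact congrArg ψ hv)
    rw [← hfixB]
    exact hXline v r hr
  · intro b hb hb1 v hv
    obtain ⟨r, hr⟩ := eq_smul_of_fix (s := φ ⟨b, hBL hb⟩)
      (fun e => hb1 (congrArg Subtype.val ((map_eq_one_iff φ φ.injective).1 e))) hw
      (hBw _ hb) (show (φ ⟨b, hBL hb⟩).1 *ᵥ ψ v = ψ v by
        rw [← hψe, ← sub_eq_zero, ← map_sub]
        exact (hψ0 _).2 (by show _ ∈ C; rw [hfixL]; exact hv))
    rw [← hfixB]
    exact hXline v r hr
  · intro v
    by_cases h0 : ψ v = 0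
    · exact ⟨1, one_mem _, by
        rw [inv_one, apply_one, ← hfixB]; exact hCX ((hψ0 v).1 h0)⟩
    obtain ⟨C₁, hC₁⟩ := exists_col hw
    obtain ⟨C₂, hC₂⟩ := exists_col h0
    refine ⟨(φ.symm (C₂ * C₁⁻¹) : L), SetLike.coe_mem _, ?_⟩
    rw [← hfixB]
    refine hXline _ 1 ?_
    show ψ (σL (φ.symm (C₂ * C₁⁻¹))⁻¹ v) = _
    rw [hψe, map_inv, φ.apply_symm_apply, _root_.mul_inv_rev, inv_inv,
      Matrix.SpecialLinearGroup.coe_mul, ← mulVec_mulVec, ← hC₂, mulVec_mulVec,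
      mulVec_mulVec, mul_assoc, ← Matrix.SpecialLinearGroup.coe_mul C₂⁻¹ C₂,
      inv_mul_cancel, one_smul, ← hC₁]
    simp
  · intro l hl hlM
    obtain ⟨r, hr⟩ := hline0 ⟨l, hl⟩ hlM
    have h := le_normalizer_map L.subtype ⟨_, hlineN ⟨l, hl⟩ r hr, rfl⟩
    rwa [map_subgroupOf_eq_of_le hBL] at h
  · intro x hx l hl hxM hlM
    obtain ⟨b, hb, hbl⟩ := htr ⟨x, hx⟩ ⟨l, hl⟩ hxM (hoff _ hlM)
    exact ⟨b, hb, hbl⟩

/-- A nonzero commutator with `B` is centralised only inside `M`. -/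
theorem fixer_le (hinj : Function.Injective σ) (hTI : IsTI p M) (hB : IsStrict σ p B)
    (hBM : B ≤ M) {b : G} (hb : b ∈ B) {v : V} (hv : σ b v - v ≠ 0) {g : G}
    (hg : σ g (σ b v - v) = σ b v - v) : g ∈ M := by
  let K : Subgroup G :=
    { carrier := {g | σ g (σ b v - v) = σ b v - v}
      one_mem' := apply_one σ _
      mul_mem' := fun {g h} hg hh => by
        show σ (g * h) _ = _
        rw [apply_mul, show σ h (σ b v - v) = σ b v - v from hh]; exact hg
      inv_mem' := fun {g} hg => by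
        show σ g⁻¹ _ = _
        conv_lhs => rw [← show σ g (σ b v - v) = σ b v - v from hg]
        rw [apply_inv_apply] }
  have hBK : B ≤ K := fun a ha => hB.quad a ha b hb v
  by_contra hgM
  obtain ⟨L, hLK, hL⟩ := exists_rootPair hinj hTI hB hBM hBK fun h => hgM (h hg)
  have hb1 : b ≠ 1 := fun e => hv (by rw [e, apply_one, sub_self])
  exact hv (by rw [hL.moved b hb hb1 v (fun l hl => hLK hl) b hb, sub_self])

/-- The structure theorem. -/
theorem structure_of_stronglyEmbedded (hinj : Function.Injective σ) (hTI : IsTI p M) (hM : M ≠ ⊤)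
    (hB : IsStrict σ p B) (hBM : B ≤ M) :
    ∃ L : Subgroup G, IsRootPair σ M B L ∧ L.Normal ∧
      (∀ x : G, (∃ k : ℕ, x ^ p ^ k = 1) → x ∈ L) ∧ M ≤ normalizer (B : Set G) := by
  classical
  obtain ⟨L, -, hL⟩ := exists_rootPair hinj hTI hB hBM (K := ⊤) le_top
    (fun h => hM (top_le_iff.1 h))
  obtain ⟨x₀, hx₀, hx₀M⟩ := SetLike.not_le_iff_exists.1 hL.not_le
  obtain ⟨b₀, hb₀, hb₀1⟩ := B.bot_or_exists_ne_one.resolve_left hB.ne_bot
  -- good vectors
  have hgood : ∀ b ∈ B, ∀ v : V, σ b v - v ≠ 0 → ∀ g : G,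
      ∃ l ∈ L, g⁻¹ * l ∈ M ∧ σ l⁻¹ (σ g (σ b v - v)) ∈ fix σ B := by
    intro b hb v hv g
    obtain ⟨l, hl, hlX⟩ := hL.cover (σ g (σ b v - v))
    refine ⟨l, hl, ?_, hlX⟩
    have hfix : σ (g⁻¹ * (l * b₀ * l⁻¹) * g) (σ b v - v) = σ b v - v := by
      have e := hlX b₀ hb₀
      rw [apply_mul, apply_mul, apply_mul, apply_mul, e, apply_apply_inv, apply_inv_apply]
    have h1 := fixer_le hinj hTI hB hBM hb hv hfix
    refine hTI (g⁻¹ * l) b₀ (hBM hb₀) hb₀1 (exists_pow_eq_one hB.pgroup hb₀) ?_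
    rwa [_root_.mul_inv_rev, inv_inv, ← mul_assoc, mul_assoc g⁻¹ l b₀, mul_assoc g⁻¹ (l * b₀)]
  obtain ⟨v₁, hv₁⟩ : ∃ v : V, σ b₀ v - v ≠ 0 := by
    by_contra h
    push Not at h
    refine hb₀1 (hinj (AddMonoidHom.ext fun v => ?_))
    show σ b₀ v = σ 1 v
    rw [apply_one]; exact sub_eq_zero.1 (h v)
  have hLM : ∀ g : G, ∃ l ∈ L, g⁻¹ * l ∈ M := fun g => by
    obtain ⟨l, hl, h, -⟩ := hgood b₀ hb₀ v₁ hv₁ g
    exact ⟨l, hl, h⟩
  -- `B` is the only `p`-subgroup of `M` containing `B`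
  have hmaxB : ∀ P : Subgroup G, IsPGroup p P → B ≤ P → P ≤ M → P = B := by
    intro P hP hBP hPM
    refine (eq_of_le_of_card_ge hBP ?_).symm
    have hex : ∀ y : P, ∃ b : B, ((b : G) * x₀)⁻¹ * ((y : G) * x₀) ∈ M := by
      intro y
      obtain ⟨l, hl, hlM⟩ := hLM ((y : G) * x₀)
      have hl' : l ∉ M := fun h => hx₀M (by
        have h2 : (y : G) * x₀ ∈ M := by simpa using mul_mem h (inv_mem hlM)
        simpa using mul_mem (inv_mem (hPM y.2)) h2)
      obtain ⟨b, hb, hbl⟩ := hL.trans x₀ hx₀ l hl hx₀M hl'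
      refine ⟨⟨b, hb⟩, ?_⟩
      simpa [mul_assoc] using mul_mem hbl (inv_mem hlM)
    choose f hf using hex
    refine Nat.card_le_card_of_injective f fun y z hyz => ?_
    by_contra hne
    refine hx₀M ?_
    have h1 := mul_mem (inv_mem (hf y)) (hyz ▸ hf z)
    have h2 := hTI x₀⁻¹ ((y : G)⁻¹ * z) (hPM (mul_mem (inv_mem y.2) z.2))
      (fun e => hne (Subtype.ext (inv_mul_eq_one.1 e)))
      (exists_pow_eq_one hP (mul_mem (inv_mem y.2) z.2))
      (by simpa [mul_assoc] using h1)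
    simpa using inv_mem h2
  have hMN : M ≤ normalizer (B : Set G) := by
    intro m hm
    refine mem_normalizer_of_map_le ?_
    -- `B` and its conjugate fix each other's commutators
    have hfixed : ∀ m ∈ M, ∀ b ∈ B, ∀ v : V, ∀ a ∈ B,
        σ (m * a * m⁻¹) (σ b v - v) = σ b v - v := by
      intro m hm b hb v a ha
      by_cases hv : σ b v - v = 0
      · rw [hv, map_zero]
      obtain ⟨l, hl, hlM, hlX⟩ := hgood b hb v hv m⁻¹
      have hlM' : l ∈ M := by simpa using mul_mem (inv_mem hm) hlM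
      have hn := mem_normalizer_iff_map_conj_eq.1 (hL.norm l hl hlM')
      have h1 : σ m⁻¹ (σ b v - v) ∈ fix σ B := by
        rw [← hn]; exact (mem_fix_conj σ).2 hlX
      rw [apply_mul, apply_mul, h1 a ha, apply_apply_inv]
    have hcomm : ∀ a ∈ B, ∀ b ∈ B, Commute b (m * a * m⁻¹) := fun a ha b hb => by
      refine hinj (AddMonoidHom.ext fun v => ?_)
      show σ (b * (m * a * m⁻¹)) v = σ (m * a * m⁻¹ * b) v
      set a' := m * a * m⁻¹ with ha'
      have h2 : σ b (σ a' v - v) = σ a' v - v := by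
        have e : σ a' v - v = σ m (σ a (σ m⁻¹ v) - σ m⁻¹ v) := by
          rw [map_sub, ha', apply_mul, apply_mul, apply_apply_inv]
        have h3 := hfixed m⁻¹ (inv_mem hm) a ha (σ m⁻¹ v) b hb
        rw [inv_inv, apply_mul, apply_mul] at h3
        rw [e]
        conv_rhs => rw [← h3, apply_apply_inv]
      have h3 : σ a' (σ b v - v) = σ b v - v := hfixed m hm b hb v a ha
      rw [map_sub] at h2 h3
      rw [apply_mul σ b a', apply_mul σ a' b]
      rw [sub_eq_iff_eq_add] at h2 h3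
      rw [h2, h3]
      abel
    set B₁ := B.map (MulAut.conj m).toMonoidHom
    have hB₁N : B₁ ≤ normalizer (B : Set G) := by
      rintro _ ⟨a, ha, rfl⟩
      refine mem_normalizer_iff.2 fun y => ⟨fun hy => ?_, fun hy => ?_⟩
      · show m * a * m⁻¹ * y * (m * a * m⁻¹)⁻¹ ∈ B
        rw [← (hcomm a ha y hy).eq, mul_inv_cancel_right]; exact hy
      · have h := (hcomm a ha _ hy).eq
        change m * a * m⁻¹ * y * (m * a * m⁻¹)⁻¹ * (m * a * m⁻¹) = _ at h
        rw [inv_mul_cancel_right] at h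
        rw [mul_left_cancel h]; exact hy
    have hsup := hmaxB (B ⊔ B₁) (hB.pgroup.to_sup_of_normal_left' (hB.pgroup.map _) hB₁N)
      le_sup_left (sup_le hBM (by
        rintro _ ⟨a, ha, rfl⟩
        exact mul_mem (mul_mem hm (hBM ha)) (inv_mem hm)))
    exact (le_sup_right : B₁ ≤ B ⊔ B₁).trans hsup.le
  obtain ⟨S, hBS⟩ := hB.pgroup.exists_le_sylow
  have hSB : (S : Subgroup G) = B := by
    by_contra hne
    haveI : Group.IsNilpotent (S : Subgroup G) := S.isPGroup'.isNilpotent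
    have hlt : B.subgroupOf (S : Subgroup G) < ⊤ := lt_top_iff_ne_top.2 fun h =>
      hne (le_antisymm (subgroupOf_eq_top.1 h) hBS)
    obtain ⟨s, hs, hsn⟩ := SetLike.exists_of_lt
      (Group.normalizerCondition_of_isNilpotent _ hlt)
    set P := (S : Subgroup G) ⊓ normalizer (B : Set G)
    have hPM : P ≤ M := fun y hy => by
      refine hTI y b₀ (hBM hb₀) hb₀1 (exists_pow_eq_one hB.pgroup hb₀) (hBM ?_)
      exact (mem_normalizer_iff.1 hy.2 b₀).1 hb₀
    have hP := hmaxB P (S.isPGroup'.to_le inf_le_left) (le_inf hBS le_normalizer) hPM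
    refine hsn (mem_subgroupOf.2 (hP.le ⟨s.2, ?_⟩))
    rw [← subgroupOf_normalizer_eq hBS] at hs
    exact hs
  have hpmem : ∀ x : G, (∃ k : ℕ, x ^ p ^ k = 1) → x ∈ L := by
    rintro x ⟨k, hk⟩
    have hx : IsPGroup p (zpowers x) := fun ⟨y, hy⟩ => by
      obtain ⟨i, rfl⟩ := mem_zpowers_iff.1 hy
      refine ⟨k, Subtype.ext ?_⟩
      show (x ^ i) ^ p ^ k = 1
      rw [← zpow_natCast, zpow_comm, zpow_natCast, hk, _root_.one_zpow]
    obtain ⟨Q, hQ⟩ := hx.exists_le_sylow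
    obtain ⟨g, hg⟩ := MulAction.exists_smul_eq G S Q
    obtain ⟨l, hl, hlM⟩ := hLM g
    have hxQ := hQ (mem_zpowers x)
    rw [← hg, Sylow.coe_subgroup_smul, hSB] at hxQ
    obtain ⟨b, hb, rfl⟩ := hxQ
    have hc := (mem_normalizer_iff.1 (hMN (inv_mem hlM)) b).1 hb
    have : g * b * g⁻¹ = l * ((g⁻¹ * l)⁻¹ * b * ((g⁻¹ * l)⁻¹)⁻¹) * l⁻¹ := by group
    show g * b * g⁻¹ ∈ L
    rw [this]
    exact mul_mem (mul_mem hl (hL.le hc)) (inv_mem hl)
  refine ⟨L, hL, normalizer_eq_top_iff.1 (eq_top_iff.2 fun g _ => mem_normalizer_of_map_le ?_),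
    hpmem, hMN⟩
  rw [← hL.gen x₀ hx₀ hx₀M, Subgroup.map_sup]
  refine (hL.gen x₀ hx₀ hx₀M).symm ▸ sup_le ?_ ?_
  · rintro _ ⟨b, hb, rfl⟩
    obtain ⟨k, hk⟩ := exists_pow_eq_one hB.pgroup hb
    exact hpmem _ ⟨k, by rw [← map_pow, hk, map_one]⟩
  · rintro _ ⟨_, ⟨b, hb, rfl⟩, rfl⟩
    obtain ⟨k, hk⟩ := exists_pow_eq_one hB.pgroup hb
    exact hpmem _ ⟨k, by rw [← map_pow, ← map_pow, hk, map_one, map_one]⟩

end CfsgLib.SL2Recognition
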