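/-
A finite additive group of invertible matrices closed under inversion is a field.

The generic element of such a group is annihilated by a polynomial of degree less than the dimension unless the
group is commutative, and the constant term of that polynomial would contradict the theorem of Chevalley and Warning.
-/
import Mathlib.FieldTheory.ChevalleyWarning
import Mathlib.LinearAlgebra.Matrix.Charpoly.Coeff
import Mathlib.FieldTheory.Minpoly.IsIntegrallyClosed
import Mathlib.RingTheory.MvPolynomial.Basic
import Mathlib.RingTheory.Polynomial.RationalRoot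
import Mathlib.RingTheory.Localization.FractionRing
import Mathlib.LinearAlgebra.FiniteDimensional.Lemmas
import Mathlib.LinearAlgebra.Dimension.Finite
import Mathlib.RingTheory.PowerBasis
import Mathlib.Algebra.Module.ZMod
import Mathlib.Algebra.MvPolynomial.Equiv
import Mathlib.RingTheory.Polynomial.GaussLemma
import Mathlib.RingTheory.Polynomial.UniqueFactorization
import Mathlib.Algebra.MvPolynomial.NoZeroDivisors
import Mathlib.Tactic.NoncommRing
import Mathlib.Data.Fintype.Card

set_option autoImplicit false
set_option linter.style.haveILetI false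

namespace CfsgLib.SL2Recognition

open Matrix Polynomial
open scoped Polynomial

section Hua

variable {R : Type*} [Ring R]

/-- Hua's identity for two additive groups of units exchanged by inversion. -/
theorem mul_mul_mem {A B : AddSubgroup R}
    (hA : ∀ a ∈ A, a ≠ 0 → ∃ b ∈ B, a * b = 1 ∧ b * a = 1)
    (hB : ∀ b ∈ B, b ≠ 0 → ∃ a ∈ A, a * b = 1 ∧ b * a = 1)
    {a x : R} (ha : a ∈ A) (hx : x ∈ B) : a * x * a ∈ A := by
  rcases eq_or_ne a 0 with rfl | ha0
  · simp
  rcases eq_or_ne x 0 with rfl | hx0
  · simp
  obtain ⟨a', ha', haa', ha'a⟩ := hA a ha ha0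
  obtain ⟨x', hx', hx'x, hxx'⟩ := hB x hx hx0
  rcases eq_or_ne (x' - a) 0 with hc | hc
  · obtain rfl := sub_eq_zero.1 hc
    rw [hx'x, one_mul]; exact ha
  obtain ⟨c', hc', hcc', hc'c⟩ := hA _ (sub_mem hx' ha) hc
  have hs0 : a' + c' = 0 ∨ a' + c' ≠ 0 := em _
  have key : (a' + c') * ((x' - a) * x * a) = 1 := by
    have e : a' + c' = a' * x' * c' := by
      calc a' + c' = a' * ((x' - a) * c') + (a' * a) * c' := by rw [hcc', ha'a, one_mul, mul_one]
        _ = a' * x' * c' := by noncomm_ring
    calc (a' + c') * ((x' - a) * x * a) = a' * x' * (c' * (x' - a)) * x * a := by rw [e]; noncomm_ring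
      _ = a' * (x' * x) * a := by rw [hc'c]; noncomm_ring
      _ = 1 := by rw [hx'x, mul_one, ha'a]
  rcases hs0 with hs | hs
  · rw [hs, zero_mul] at key
    have : a * x * a = 0 := by
      calc a * x * a = a * x * a * 1 := (mul_one _).symm
        _ = 0 := by rw [← key, mul_zero]
    rw [this]; exact zero_mem A
  obtain ⟨d, hd, hds, hsd⟩ := hB _ (add_mem ha' hc') hs
  have hd' : d = (x' - a) * x * a := left_inv_eq_right_inv hds key
  have : a * x * a = a - d := by
    rw [hd', sub_mul, sub_mul, hx'x, one_mul, sub_sub_cancel]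
  rw [this]
  exact sub_mem ha hd

end Hua

variable {p : ℕ} [Fact p.Prime] {ι : Type*} [Fintype ι] [DecidableEq ι]

/-- The generic element of a noncommutative space of matrices closed under `a x a` has small degree; so the
space contains a singular nonzero matrix. -/
theorem commute_of_jordan {A : AddSubgroup (Matrix ι ι (ZMod p))} (h1 : (1 : Matrix ι ι (ZMod p)) ∈ A)
    (hunit : ∀ a ∈ A, a ≠ 0 → IsUnit a) (hU : ∀ a ∈ A, ∀ x ∈ A, a * x * a ∈ A) :
    ∀ a ∈ A, ∀ b ∈ A, Commute a b := by
  classical
  set A' : Submodule (ZMod p) (Matrix ι ι (ZMod p)) := AddSubgroup.toZModSubmodule p A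
  have hA' : ∀ {a}, a ∈ A' ↔ a ∈ A := Iff.rfl
  set N := Module.finrank (ZMod p) A'
  set β : Module.Basis (Fin N) (ZMod p) A' := Module.finBasis (ZMod p) A'
  set Pol := MvPolynomial (Fin N) (ZMod p)
  set L := FractionRing Pol
  set χ₀ : Matrix ι ι (ZMod p) →+* Matrix ι ι Pol := (MvPolynomial.C : ZMod p →+* Pol).mapMatrix
  set θ : Matrix ι ι Pol →+* Matrix ι ι L := (algebraMap Pol L).mapMatrix
  set Φ : Matrix ι ι Pol := ∑ i, (MvPolynomial.X i : Pol) • χ₀ (β i : Matrix ι ι (ZMod p))
  set g : Fin N → Matrix ι ι L := fun i => θ (χ₀ (β i : Matrix ι ι (ZMod p)))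
  set W := Submodule.span L (Set.range g)
  have himg : ∀ a ∈ A, θ (χ₀ a) ∈ W := by
    intro a ha
    have e : a = ∑ i, (β.repr ⟨a, hA'.2 ha⟩ i) • (β i : Matrix ι ι (ZMod p)) := by
      conv_lhs => rw [show a = ((⟨a, hA'.2 ha⟩ : A') : Matrix ι ι (ZMod p)) from rfl, ← β.sum_repr ⟨a, hA'.2 ha⟩]
      simp only [Submodule.coe_sum, Submodule.coe_smul]
    rw [e, map_sum, map_sum]
    refine Submodule.sum_mem _ fun i _ => ?_
    rw [← ZMod.natCast_zmod_val (β.repr ⟨a, hA'.2 ha⟩ i), Nat.cast_smul_eq_nsmul, map_nsmul, map_nsmul]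
    exact Submodule.smul_of_tower_mem W _ (Submodule.subset_span ⟨i, rfl⟩)
  have hsym : ∀ i j k, g i * g k * g j + g j * g k * g i ∈ W := by
    intro i j k
    simp only [g, ← map_mul, ← map_add]
    refine himg _ ?_
    set a : Matrix ι ι (ZMod p) := (β i : Matrix ι ι (ZMod p)) with ha
    set b : Matrix ι ι (ZMod p) := (β j : Matrix ι ι (ZMod p)) with hb
    set x : Matrix ι ι (ZMod p) := (β k : Matrix ι ι (ZMod p)) with hx
    have e : a * x * b + b * x * a = (a + b) * x * (a + b) - a * x * a - b * x * b := by noncomm_ring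
    rw [e]
    exact sub_mem (sub_mem (hU _ (add_mem (β i).2 (β j).2) _ (β k).2) (hU _ (β i).2 _ (β k).2))
      (hU _ (β j).2 _ (β k).2)
  -- `W` is closed under `y ↦ y x y`
  have hW : ∀ y ∈ W, ∀ x ∈ W, y * x * y ∈ W := by
    intro y hy x hx
    induction hx using Submodule.span_induction with
    | mem x hx =>
      obtain ⟨k, rfl⟩ := hx
      have hB : ∀ z ∈ W, ∀ i, z * g k * g i + g i * g k * z ∈ W := by
        intro z hz i
        induction hz using Submodule.span_induction with
        | mem z hz => obtain ⟨j, rfl⟩ := hz; exact hsym j i k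
        | zero => simp
        | add z w _ _ hz hw =>
          have e : (z + w) * g k * g i + g i * g k * (z + w) =
            (z * g k * g i + g i * g k * z) + (w * g k * g i + g i * g k * w) := by noncomm_ring
          rw [e]; exact add_mem hz hw
        | smul c z _ hz =>
          rw [smul_mul_assoc, smul_mul_assoc, mul_smul_comm, ← smul_add]
          exact W.smul_mem c hz
      have hC : ∀ z ∈ W, ∀ w ∈ W, z * g k * w + w * g k * z ∈ W := by
        intro z hz w hw
        induction hw using Submodule.span_induction with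
        | mem w hw => obtain ⟨j, rfl⟩ := hw; exact hB z hz j
        | zero => simp
        | add v w _ _ hv hw =>
          have e : z * g k * (v + w) + (v + w) * g k * z =
            (z * g k * v + v * g k * z) + (z * g k * w + w * g k * z) := by noncomm_ring
          rw [e]; exact add_mem hv hw
        | smul c v _ hv =>
          rw [smul_mul_assoc, smul_mul_assoc, mul_smul_comm, ← smul_add]
          exact W.smul_mem c hv
      induction hy using Submodule.span_induction with
      | mem y hy =>
        obtain ⟨i, rfl⟩ := hy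
        simp only [g, ← map_mul]
        exact himg _ (hU _ (β i).2 _ (β k).2)
      | zero => simp
      | add y z hy hz hy' hz' =>
        have e : (y + z) * g k * (y + z) = y * g k * y + z * g k * z + (y * g k * z + z * g k * y) := by
          noncomm_ring
        rw [e]; exact add_mem (add_mem hy' hz') (hC y hy z hz)
      | smul c y _ hy' =>
        rw [smul_mul_assoc, smul_mul_assoc, mul_smul_comm]
        exact W.smul_mem c (W.smul_mem c hy')
    | zero => simp
    | add u v _ _ hu hv => rw [mul_add, add_mul]; exact add_mem hu hv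
    | smul c u _ hu => rw [mul_smul_comm, smul_mul_assoc]; exact W.smul_mem c hu
  set Φ' := θ Φ with hΦ'def
  have hΦW : Φ' ∈ W := by
    rw [hΦ'def, map_sum]
    refine Submodule.sum_mem _ fun i _ => ?_
    have e : θ ((MvPolynomial.X i : Pol) • χ₀ (β i : Matrix ι ι (ZMod p))) =
        algebraMap Pol L (MvPolynomial.X i) • g i := by
      ext u v; simp [θ, g, RingHom.mapMatrix_apply]
    rw [e]
    exact W.smul_mem _ (Submodule.subset_span ⟨i, rfl⟩)
  have hpow : ∀ k, Φ' ^ k ∈ W ∧ Φ' ^ (k + 1) ∈ W := by
    intro k
    induction k with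
    | zero => exact ⟨by simpa using himg 1 h1, by simpa using hΦW⟩
    | succ k ih =>
      refine ⟨ih.2, ?_⟩
      rw [pow_succ, pow_succ', ]
      simpa [mul_assoc] using hW _ hΦW _ ih.1
  set μ := minpoly L Φ'
  have hint : IsIntegral L Φ' := Algebra.IsIntegral.isIntegral _
  set m := μ.natDegree
  by_cases hmN : N ≤ m
  · -- the powers of the generic element span `W`
    have hli : LinearIndependent L fun k : Fin N => (⟨Φ' ^ (k : ℕ), (hpow k).1⟩ : W) := by
      refine LinearIndependent.of_comp W.subtype ?_
      exact (linearIndependent_pow Φ').comp (Fin.castLE hmN) (Fin.castLE_injective hmN)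
    have hdim : Module.finrank L W ≤ N := (finrank_range_le_card g).trans_eq (Fintype.card_fin N)
    have hge : N ≤ Module.finrank L W := by simpa using hli.fintype_card_le_finrank
    have hspan := hli.span_eq_top_of_card_eq_finrank' (by simp; omega)
    have hcomm : ∀ y ∈ W, Commute y Φ' := by
      intro y hy
      have hy' : (⟨y, hy⟩ : W) ∈ Submodule.span L (Set.range fun k : Fin N => (⟨Φ' ^ (k : ℕ), (hpow k).1⟩ : W)) :=
        hspan ▸ Submodule.mem_top
      obtain ⟨c, hc⟩ := (Submodule.mem_span_range_iff_exists_fun L).1 hy'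
      have hc' : ∑ k, c k • Φ' ^ (k : ℕ) = y := by
        simpa [Submodule.coe_sum] using congrArg Subtype.val hc
      rw [← hc']
      exact Commute.sum_left _ _ _ fun k _ => ((Commute.refl Φ').pow_left _).smul_left _
    have hWc : ∀ y ∈ W, ∀ z ∈ W, Commute y z := by
      intro y hy z hz
      have hz' : (⟨z, hz⟩ : W) ∈ Submodule.span L (Set.range fun k : Fin N => (⟨Φ' ^ (k : ℕ), (hpow k).1⟩ : W)) :=
        hspan ▸ Submodule.mem_top
      obtain ⟨c, hc⟩ := (Submodule.mem_span_range_iff_exists_fun L).1 hz'
      have hc' : ∑ k, c k • Φ' ^ (k : ℕ) = z := by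
        simpa [Submodule.coe_sum] using congrArg Subtype.val hc
      rw [← hc']
      exact Commute.sum_right _ _ _ fun k _ => ((hcomm y hy).pow_right _).smul_right _
    intro a ha b hb
    have h := (hWc _ (himg a ha) _ (himg b hb)).eq
    rw [← map_mul, ← map_mul, ← map_mul, ← map_mul] at h
    have hinj : Function.Injective fun a => θ (χ₀ a) :=
      (Matrix.map_injective (IsFractionRing.injective Pol L)).comp
        (Matrix.map_injective (MvPolynomial.C_injective _ _))
    exact hinj h
  -- the constant term of the generic minimal polynomial has too few zeros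
  · exfalso
    rw [not_le] at hmN
    haveI hne : Nonempty ι := by
      by_contra h
      haveI : IsEmpty ι := not_nonempty_iff.1 h
      haveI : Subsingleton A' := ⟨fun a b => Subtype.ext (Subsingleton.elim _ _)⟩
      have : N = 0 := Module.finrank_zero_of_subsingleton
      omega
    have hm0 : 0 < m := minpoly.natDegree_pos hint
    have hdvd : μ ∣ Φ.charpoly.map (algebraMap Pol L) := by
      rw [← Matrix.charpoly_map]
      exact minpoly.dvd L _ (Matrix.aeval_self_charpoly _)
    obtain ⟨μ₀, hμ₀⟩ := IsIntegrallyClosed.eq_map_mul_C_of_dvd L (Matrix.charpoly_monic Φ) hdvd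
    rw [(minpoly.monic hint).leadingCoeff, Polynomial.C_1, mul_one] at hμ₀
    have hμ₀m : μ₀.Monic := Polynomial.monic_of_injective (IsFractionRing.injective Pol L) (hμ₀ ▸ minpoly.monic hint)
    have hμ₀d : μ₀ ∣ Φ.charpoly := by
      rw [← Polynomial.map_dvd_map _ (IsFractionRing.injective Pol L) hμ₀m, hμ₀]; exact hdvd
    obtain ⟨ν, hν⟩ := hμ₀d
    have hνm : ν.Monic := hμ₀m.of_mul_monic_left (hν ▸ Matrix.charpoly_monic Φ)
    have hμdeg : μ₀.natDegree = m := by
      show μ₀.natDegree = μ.natDegree
      rw [← hμ₀, hμ₀m.natDegree_map]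
    set e := MvPolynomial.optionEquivLeft (ZMod p) (Fin N)
    have htot : (e.symm Φ.charpoly).totalDegree ≤ Fintype.card ι := by
      rw [Matrix.charpoly, AlgEquiv.map_det e.symm, Matrix.det_apply]
      refine MvPolynomial.totalDegree_finsetSum_le fun s _ => ?_
      refine le_trans (MvPolynomial.totalDegree_smul_le _ _) ?_
      refine le_trans (MvPolynomial.totalDegree_finset_prod _ _) ?_
      refine le_trans (Finset.sum_le_card_nsmul _ _ 1 fun u _ => ?_) (by simp)
      rw [AlgEquiv.mapMatrix_apply, Matrix.map_apply, Matrix.charmatrix_apply]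
      have hC : ∀ f : Pol, (e.symm (Polynomial.C f)) = MvPolynomial.rename some f := fun f =>
        e.injective (by
          rw [AlgEquiv.apply_symm_apply]
          induction f using MvPolynomial.induction_on with
          | C r => simp [e]
          | add f g hf hg => simp [map_add, hf, hg]
          | mul_X f i hf => simp [map_mul, hf, e, MvPolynomial.optionEquivLeft_X_some])
      have hX : e.symm Polynomial.X = MvPolynomial.X none :=
        e.injective (by rw [AlgEquiv.apply_symm_apply]; simp [e, MvPolynomial.optionEquivLeft_X_none])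
      show (e.symm (Matrix.diagonal (fun _ => (Polynomial.X : Polynomial Pol)) (s u) u -
        Polynomial.C (Φ (s u) u))).totalDegree ≤ 1
      rw [map_sub, hC]
      refine le_trans (MvPolynomial.totalDegree_sub _ _) (max_le ?_ (le_trans (MvPolynomial.totalDegree_rename_le _ _) ?_))
      · rw [Matrix.diagonal_apply]
        split
        · rw [hX]; simp
        · simp
      · simp only [Φ, Matrix.sum_apply]
        refine MvPolynomial.totalDegree_finsetSum_le fun i _ => ?_
        rw [Matrix.smul_apply, smul_eq_mul]
        refine le_trans (MvPolynomial.totalDegree_mul _ _) ?_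
        simp [χ₀, RingHom.mapMatrix_apply]
    have hnat : ∀ f : Polynomial Pol, f.natDegree ≤ (e.symm f).totalDegree := by
      intro f
      conv_lhs => rw [← e.apply_symm_apply f, MvPolynomial.natDegree_optionEquivLeft]
      exact MvPolynomial.degreeOf_le_totalDegree _ _
    set c₀ := μ₀.coeff 0
    have hc₀ : c₀.totalDegree < Fintype.card (Fin N) := by
      rw [Fintype.card_fin]
      refine lt_of_le_of_lt ?_ hmN
      rcases eq_or_ne c₀ 0 with h | h
      · simp [h]
      have h2 : c₀.totalDegree ≤ (e.symm μ₀).totalDegree := by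
        have := MvPolynomial.totalDegree_coeff_optionEquivLeft_add_le (ZMod p) (Fin N) (e.symm μ₀) 0
          (by simpa [e] using h)
        simpa [e] using this
      have h3 := MvPolynomial.totalDegree_mul_of_isDomain (f := e.symm μ₀) (g := e.symm ν)
        (by simpa using hμ₀m.ne_zero) (by simpa using hνm.ne_zero)
      rw [← map_mul, ← hν] at h3
      have h4 := hnat ν
      have h5 : Φ.charpoly.natDegree = μ₀.natDegree + ν.natDegree := by
        rw [hν, hμ₀m.natDegree_mul hνm]
      rw [Matrix.charpoly_natDegree_eq_dim, hμdeg] at h5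
      omega
    -- evaluation at a point of the space
    have key : ∀ x : Fin N → ZMod p, MvPolynomial.eval x c₀ = 0 ↔ x = 0 := by
      intro x
      set Y : Matrix ι ι (ZMod p) := (MvPolynomial.eval x).mapMatrix Φ
      have hY : Y = ((∑ i, x i • β i : A') : Matrix ι ι (ZMod p)) := by
        ext u v
        simp [Y, Φ, χ₀, RingHom.mapMatrix_apply, Matrix.sum_apply, Submodule.coe_sum]
      have hχ : Y.charpoly = μ₀.map (MvPolynomial.eval x) * ν.map (MvPolynomial.eval x) := by
        rw [← Polynomial.map_mul, ← hν, ← Matrix.charpoly_map]; rfl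
      constructor
      · intro h0
        by_contra hx
        have hYne : Y ≠ 0 := by
          rw [hY]
          intro h
          apply hx
          have h' : (∑ i, x i • β i : A') = 0 := Subtype.ext h
          exact funext fun i => by
            have := Fintype.linearIndependent_iff.1 β.linearIndependent x h' i
            simpa using this
        have hu := hunit Y (hY ▸ (∑ i, x i • β i : A').2) hYne
        have : Y.det = 0 := by
          rw [Matrix.det_eq_sign_charpoly_coeff, hχ, Polynomial.mul_coeff_zero, Polynomial.coeff_map, h0,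
            zero_mul, mul_zero]
        exact ((Matrix.isUnit_iff_isUnit_det Y).1 hu).ne_zero this
      · rintro rfl
        have hY0 : Y = 0 := by rw [hY]; simp
        rw [hY0, Matrix.charpoly_zero] at hχ
        obtain ⟨i, -, hi⟩ := (dvd_prime_pow Polynomial.prime_X _).1 (Dvd.intro _ hχ.symm)
        have he : μ₀.map (MvPolynomial.eval 0) = Polynomial.X ^ i :=
          Polynomial.eq_of_monic_of_associated (hμ₀m.map _) (Polynomial.monic_X_pow i) hi
        have hdeg := congrArg Polynomial.natDegree he
        rw [hμ₀m.natDegree_map, hμdeg, Polynomial.natDegree_X_pow] at hdeg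
        rw [← Polynomial.coeff_map, he, Polynomial.coeff_X_pow]
        simp; omega
    have h := char_dvd_card_solutions p hc₀
    haveI : Unique { x : Fin N → ZMod p // MvPolynomial.eval x c₀ = 0 } :=
      ⟨⟨⟨0, (key 0).2 rfl⟩⟩, fun y => Subtype.ext ((key y.1).1 y.2)⟩
    rw [Fintype.card_unique] at h
    exact (Fact.out : p.Prime).not_dvd_one h

/-- A finite additive group of matrices, containing `1`, in which the nonzero elements have inverses, is closed
under multiplication and commutative. -/
theorem field_of_inv_closed {A : AddSubgroup (Matrix ι ι (ZMod p))} (h1 : (1 : Matrix ι ι (ZMod p)) ∈ A)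
    (hinv : ∀ a ∈ A, a ≠ 0 → ∃ b ∈ A, a * b = 1 ∧ b * a = 1) :
    ∀ a ∈ A, ∀ b ∈ A, a * b ∈ A ∧ a * b = b * a := by
  classical
  have hU : ∀ a ∈ A, ∀ x ∈ A, a * x * a ∈ A := fun a ha x hx => mul_mul_mem hinv
    (fun b hb hb0 => by obtain ⟨c, hc, h⟩ := hinv b hb hb0; exact ⟨c, hc, h.2, h.1⟩) ha hx
  have hunit : ∀ a ∈ A, a ≠ 0 → IsUnit a := fun a ha ha0 => by
    obtain ⟨b, -, h, h'⟩ := hinv a ha ha0; exact ⟨⟨a, b, h, h'⟩, rfl⟩
  have hcomm := commute_of_jordan h1 hunit hU
  intro a ha b hb
  refine ⟨?_, (hcomm a ha b hb).eq⟩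
  by_cases hp2 : p = 2
  · subst hp2
    have hinj : Function.Injective fun s : A => (⟨(s : Matrix ι ι (ZMod 2)) * 1 * s, hU _ s.2 _ s.2 |> fun _ =>
        hU _ s.2 _ h1⟩ : A) := by
      intro s t h
      have h' : (s : Matrix ι ι (ZMod 2)) * s = t * t := by simpa using congrArg Subtype.val h
      refine Subtype.ext ?_
      by_contra hne
      have hu := hunit _ (sub_mem s.2 t.2) (sub_ne_zero.2 hne)
      have h0 : ((s : Matrix ι ι (ZMod 2)) - t) * ((s : Matrix ι ι (ZMod 2)) + t) = 0 := by
        rw [(hcomm _ s.2 _ t.2).mul_self_sub_mul_self_eq'.symm, h', sub_self]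
      rw [(hu.mul_right_eq_zero), ← ZModModule.sub_eq_add, sub_eq_zero] at h0
      exact hne h0
    obtain ⟨s, hs⟩ := Finite.surjective_of_injective hinj ⟨a, ha⟩
    have hs' : (s : Matrix ι ι (ZMod 2)) * s = a := by simpa using congrArg Subtype.val hs
    rw [← hs', mul_assoc, (hcomm _ s.2 _ hb).eq, ← mul_assoc]
    exact hU _ s.2 _ hb
  · have e : a * b + a * b = (a + 1) * b * (a + 1) - a * b * a - b := by
      calc a * b + a * b = a * b + b * a := by rw [(hcomm a ha b hb).eq]
        _ = _ := by noncomm_ring
    have hmem : a * b + a * b ∈ AddSubgroup.toZModSubmodule p A :=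
      e ▸ sub_mem (sub_mem (hU _ (add_mem ha h1) _ hb) (hU _ ha _ hb)) hb
    have h2 : (2 : ZMod p) ≠ 0 := by
      intro h
      exact hp2 ((Nat.prime_dvd_prime_iff_eq Fact.out Nat.prime_two).1
        ((CharP.cast_eq_zero_iff (ZMod p) p 2).1 (by exact_mod_cast h)))
    have := (AddSubgroup.toZModSubmodule p A).smul_mem (2⁻¹ : ZMod p) hmem
    rwa [← two_smul (ZMod p), smul_smul, inv_mul_cancel₀ h2, one_smul] at this

end CfsgLib.SL2Recognition
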