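/-
Two groups of transvections with invertible pairing generate `SL₂(F)` on its natural module.
-/
import Cfsg.Agent.SL2Recognition.Division
import Cfsg.Agent.Linear.SylowChar
import Mathlib.RingTheory.IntegralDomain
import Mathlib.LinearAlgebra.Matrix.ToLin

set_option autoImplicit false
set_option linter.style.haveILetI false

namespace CfsgLib.SL2Recognition

open Matrix CfsgLib.Linear
open scoped MatrixGroups

variable {G W : Type*} [Group G] [AddCommGroup W]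

theorem upperUni_mulVec {F : Type*} [Field F] (x : F) (c : Fin 2 → F) :
    (upperUni x).1 *ᵥ c = ![c 0 + x * c 1, c 1] := by
  rw [upperUni_val]
  ext i
  fin_cases i <;> simp [Matrix.mulVec, dotProduct, Fin.sum_univ_two]

theorem lowerUni_mulVec {F : Type*} [Field F] (x : F) (c : Fin 2 → F) :
    (lowerUni x).1 *ᵥ c = ![c 0, c 1 + x * c 0] := by
  rw [lowerUni_val]
  ext i
  fin_cases i <;> simp [Matrix.mulVec, dotProduct, Fin.sum_univ_two, add_comm]

/-- `A` fixes `X` and moves `Y` into `X`, `B` the other way round, and the two pairings are inverse to each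
other: then the group generated is `SL₂(F)` on its natural module, `|F| = |A|`. -/
theorem exists_sl2 [Finite W] {p : ℕ} [Fact p.Prime] (ρ : G →* AddMonoid.End W) (hinj : Function.Injective ρ)
    (hp0 : ∀ w : W, p • w = 0) {A B : Subgroup G} [Finite A] [Finite B] (hgen : A ⊔ B = ⊤)
    {X Y : AddSubgroup W} (hXY : X ⊓ Y = ⊥) (hsup : X ⊔ Y = ⊤)
    (hAX : ∀ a ∈ A, ∀ x ∈ X, ρ a x = x) (hAW : ∀ a ∈ A, ∀ w, ρ a w - w ∈ X)
    (hBY : ∀ b ∈ B, ∀ y ∈ Y, ρ b y = y) (hBW : ∀ b ∈ B, ∀ w, ρ b w - w ∈ Y)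
    (hA1 : A ≠ ⊥) (hcardA : Nat.card A = Nat.card Y) (hcardX : Nat.card X = Nat.card Y)
    (hcardB : Nat.card B = Nat.card A)
    (hfree : ∀ a ∈ A, a ≠ 1 → ∀ y ∈ Y, ρ a y = y → y = 0)
    (hpair : ∀ a ∈ A, a ≠ 1 → ∃ b ∈ B, ∀ y ∈ Y, ρ b (ρ a y - y) = ρ a y) :
    ∃ (F : Type) (_ : Field F) (_ : Fintype F) (φ : G ≃* SL(2, F)) (ψ : W ≃+ (Fin 2 → F)),
      Fintype.card F = Nat.card A ∧ ∀ g w, ψ (ρ g w) = (φ g).1 *ᵥ ψ w := by
  classical
  have hY0 : ∀ y : ↥Y, p • y = 0 := fun y => Subtype.ext (by simp [hp0])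
  letI : Module (ZMod p) ↥Y := AddCommGroup.zmodModule (n := p) hY0
  haveI : Module.Finite (ZMod p) ↥Y := Module.Finite.of_finite
  set n := Module.finrank (ZMod p) ↥Y
  let β : Module.Basis (Fin n) (ZMod p) ↥Y := Module.finBasis (ZMod p) ↥Y
  let κ : (Fin n → ZMod p) ≃+ ↥Y := β.equivFun.symm.toAddEquiv
  obtain ⟨a₀, ha₀, ha₀1⟩ := (Subgroup.ne_bot_iff_exists_ne_one.1 hA1 |> fun ⟨a, ha⟩ =>
    (⟨a.1, a.2, fun h => ha (Subtype.ext h)⟩ : ∃ a, a ∈ A ∧ a ≠ 1))
  let δ₀ : Y →+ X :=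
    AddMonoidHom.mk' (fun y => ⟨ρ a₀ y.1 - y.1, hAW a₀ ha₀ _⟩) fun y z => Subtype.ext (by
      simp only [AddSubgroup.coe_add, map_add]; abel)
  have hδ₀ : Function.Bijective δ₀ := by
    have hδinj : Function.Injective δ₀ := (injective_iff_map_eq_zero δ₀).2 fun y hy =>
      Subtype.ext (hfree a₀ ha₀ ha₀1 y.1 y.2 (sub_eq_zero.1 (congrArg Subtype.val hy :)))
    exact (Nat.bijective_iff_injective_and_card δ₀).2 ⟨hδinj, hcardX.symm⟩
  let δ := AddEquiv.ofBijective δ₀ hδ₀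
  let ε₀ : (Fin n → ZMod p) × (Fin n → ZMod p) →+ W :=
    AddMonoidHom.mk' (fun c => (δ (κ c.1) : W) + (κ c.2 : W)) fun c d => by
      simp only [Prod.fst_add, Prod.snd_add, map_add, AddSubgroup.coe_add]; abel
  have hε : Function.Bijective ε₀ := by
    refine ⟨(injective_iff_map_eq_zero ε₀).2 fun c hc => ?_, fun w => ?_⟩
    · have h1 : (δ (κ c.1) : W) = -(κ c.2 : W) := eq_neg_of_add_eq_zero_left hc
      have h2 : (δ (κ c.1) : W) ∈ X ⊓ Y := ⟨(δ (κ c.1)).2, h1 ▸ Y.neg_mem (κ c.2).2⟩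
      rw [hXY, AddSubgroup.mem_bot] at h2
      rw [h2, eq_comm, neg_eq_zero] at h1
      have h3 : δ (κ c.1) = 0 := Subtype.ext h2
      refine Prod.ext (κ.injective (δ.injective ?_)) (κ.injective ?_)
      · rw [h3, Prod.fst_zero, map_zero, map_zero]
      · rw [Prod.snd_zero, map_zero]; exact Subtype.ext h1
    · obtain ⟨x, hx, y, hy, rfl⟩ := AddSubgroup.mem_sup.1 (hsup ▸ AddSubgroup.mem_top w)
      exact ⟨(κ.symm (δ.symm ⟨x, hx⟩), κ.symm ⟨y, hy⟩), by simp [ε₀]⟩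
  let ε := AddEquiv.ofBijective ε₀ hε
  have hεx : ∀ u, (ε (u, 0) : W) ∈ X := fun u => by simp [ε, ε₀]
  have hεy : ∀ v, (ε (0, v) : W) = κ v := fun v => by simp [ε, ε₀]
  -- the matrices of the elements of `A` and of `B`
  have hD : ∀ a : A, ∃ D : Matrix (Fin n) (Fin n) (ZMod p), ∀ u v,
      ρ a (ε (u, v)) = ε (u + D *ᵥ v, v) := by
    intro a
    let f : (Fin n → ZMod p) →+ (Fin n → ZMod p) :=
      AddMonoidHom.mk' (fun v => κ.symm (δ.symm ⟨ρ a.1 (κ v) - κ v, hAW a.1 a.2 _⟩)) fun v w => by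
        rw [← map_add, ← map_add]
        congr 2
        exact Subtype.ext (by simp only [map_add, AddSubgroup.coe_add]; abel)
    refine ⟨LinearMap.toMatrix' (AddMonoidHom.toZModLinearMap p f), fun u v => ?_⟩
    rw [← Matrix.toLin'_apply, Matrix.toLin'_toMatrix']
    show ρ a.1 ((δ (κ u) : W) + κ v) = (δ (κ (u + f v)) : W) + κ v
    rw [map_add, hAX a.1 a.2 _ (δ (κ u)).2, map_add, map_add, AddSubgroup.coe_add]
    simp [f]
    abel
  choose D hD using hD
  have hE : ∀ b : B, ∃ E : Matrix (Fin n) (Fin n) (ZMod p), ∀ u v,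
      ρ b (ε (u, v)) = ε (u, v + E *ᵥ u) := by
    intro b
    let f : (Fin n → ZMod p) →+ (Fin n → ZMod p) :=
      AddMonoidHom.mk' (fun u => κ.symm ⟨ρ b.1 (δ (κ u)) - δ (κ u), hBW b.1 b.2 _⟩) fun v w => by
        rw [← map_add]
        congr 1
        exact Subtype.ext (by simp only [map_add, AddSubgroup.coe_add]; abel)
    refine ⟨LinearMap.toMatrix' (AddMonoidHom.toZModLinearMap p f), fun u v => ?_⟩
    rw [← Matrix.toLin'_apply, Matrix.toLin'_toMatrix']
    show ρ b.1 ((δ (κ u) : W) + κ v) = (δ (κ u) : W) + κ (v + f u)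
    rw [map_add, hBY b.1 b.2 _ (κ v).2, map_add κ, AddSubgroup.coe_add]
    simp [f]
    abel
  choose E hE using hE
  have hext : ∀ {M N : Matrix (Fin n) (Fin n) (ZMod p)}, (∀ v, M *ᵥ v = N *ᵥ v) → M = N :=
    fun h => Matrix.ext_iff_mulVec.2 h
  have hρ1 : ∀ g : G, (∀ c, ρ g (ε c) = ε c) → g = 1 := fun g h => hinj (AddMonoidHom.ext fun w => by
    obtain ⟨c, rfl⟩ := ε.surjective w
    show (ρ g) (ε c) = (ρ 1) (ε c)
    rw [h c, map_one]; rfl)
  let Dh : Additive A →+ Matrix (Fin n) (Fin n) (ZMod p) :=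
    AddMonoidHom.mk' (fun a => D a.toMul) fun a b => hext fun v => by
      have h : ρ ((a.toMul * b.toMul : A) : G) (ε (0, v)) = ρ (a.toMul : G) (ρ (b.toMul : G) (ε (0, v))) := by
        rw [Subgroup.coe_mul, map_mul]; rfl
      rw [hD, hD, hD, ε.injective.eq_iff, Prod.mk.injEq] at h
      show D (a.toMul * b.toMul) *ᵥ v = _
      rw [Matrix.add_mulVec]
      simpa [add_comm] using h.1
  let Eh : Additive B →+ Matrix (Fin n) (Fin n) (ZMod p) :=
    AddMonoidHom.mk' (fun a => E a.toMul) fun a b => hext fun v => by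
      have h : ρ ((a.toMul * b.toMul : B) : G) (ε (v, 0)) = ρ (a.toMul : G) (ρ (b.toMul : G) (ε (v, 0))) := by
        rw [Subgroup.coe_mul, map_mul]; rfl
      rw [hE, hE, hE, ε.injective.eq_iff, Prod.mk.injEq] at h
      show E (a.toMul * b.toMul) *ᵥ v = _
      rw [Matrix.add_mulVec]
      simpa [add_comm] using h.2
  have hDinj : Function.Injective D := fun a b h => Additive.ofMul.injective <| by
    have hker : ∀ c, Dh c = 0 → c = 0 := fun c hc => Subtype.ext (hρ1 (c.toMul : G) fun ⟨u, v⟩ => by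
      rw [hD, show D c.toMul = 0 from hc]; simp)
    exact (injective_iff_map_eq_zero Dh).2 hker (a₁ := Additive.ofMul a) (a₂ := Additive.ofMul b) h
  have hEinj : Function.Injective E := fun a b h => Additive.ofMul.injective <| by
    have hker : ∀ c, Eh c = 0 → c = 0 := fun c hc => Subtype.ext (hρ1 (c.toMul : G) fun ⟨u, v⟩ => by
      rw [hE, show E c.toMul = 0 from hc]; simp)
    exact (injective_iff_map_eq_zero Eh).2 hker (a₁ := Additive.ofMul a) (a₂ := Additive.ofMul b) h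
  have hD0 : D 1 = 0 := Dh.map_zero
  have hE0 : E 1 = 0 := Eh.map_zero
  have hone : D ⟨a₀, ha₀⟩ = 1 := hext fun v => by
    have h := hD ⟨a₀, ha₀⟩ 0 v
    have h' : ρ a₀ (ε (0, v)) = ε (v, v) := by
      show ρ a₀ ((δ (κ 0) : W) + κ v) = (δ (κ v) : W) + κ v
      simp [δ, δ₀]
    rw [h', ε.injective.eq_iff, Prod.mk.injEq] at h
    rw [Matrix.one_mulVec]; simpa using h.1.symm
  have hpair' : ∀ a : A, a ≠ 1 → ∃ b : B, E b * D a = 1 := by
    intro a ha
    obtain ⟨b, hb, h⟩ := hpair a.1 a.2 fun e => ha (Subtype.ext e)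
    refine ⟨⟨b, hb⟩, hext fun v => ?_⟩
    have h1 := h _ (κ v).2
    have e1 : ρ a.1 (κ v) - (κ v : W) = ε (D a *ᵥ v, 0) := by
      rw [← hεy, hD, ← map_sub]; simp
    rw [e1, ← hεy, hD, hE ⟨b, hb⟩, ε.injective.eq_iff, Prod.mk.injEq] at h1
    rw [Matrix.one_mulVec, ← Matrix.mulVec_mulVec]
    simpa using h1.2
  -- every element of `B` is paired
  let τ : A → B := fun a => if ha : a = 1 then 1 else (hpair' a ha).choose
  have hτ : Function.Bijective τ := by
    refine (Nat.bijective_iff_injective_and_card τ).2 ⟨?_, hcardB.symm⟩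
    intro a b h
    have hne : ∀ a, (ha : a ≠ 1) → E (τ a) ≠ 0 := fun a ha h0 => by
      have := (hpair' a ha).choose_spec
      simp only [τ, dif_neg ha] at h0
      rw [h0, zero_mul] at this
      exact ha (hDinj (by
        rw [hD0]
        calc D a = 1 * D a := (one_mul _).symm
          _ = 0 := by rw [← this, zero_mul]))
    by_cases ha : a = 1 <;> by_cases hb : b = 1
    · rw [ha, hb]
    · exact absurd (h ▸ (by simp [τ, ha, hE0]) : E (τ b) = 0) (hne b hb)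
    · exact absurd (h ▸ (by simp [τ, hb, hE0]) : E (τ a) = 0) (hne a ha)
    · simp only [τ, dif_neg ha, dif_neg hb] at h
      refine hDinj ?_
      have e1 := (hpair' a ha).choose_spec
      have e2 := (hpair' b hb).choose_spec
      rw [← h] at e2
      exact left_inv_eq_right_inv (mul_eq_one_comm.1 e1) e2
  set 𝒜 := Dh.range
  set ℰ := Eh.range
  have h1mem : (1 : Matrix (Fin n) (Fin n) (ZMod p)) ∈ 𝒜 := ⟨Additive.ofMul ⟨a₀, ha₀⟩, hone⟩
  have hA' : ∀ M ∈ 𝒜, M ≠ 0 → ∃ N ∈ ℰ, M * N = 1 ∧ N * M = 1 := by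
    rintro _ ⟨a, rfl⟩ ha
    obtain ⟨b, hb⟩ := hpair' a.toMul fun e => ha (by show D a.toMul = 0; rw [e, hD0])
    exact ⟨_, ⟨Additive.ofMul b, rfl⟩, mul_eq_one_comm.1 hb, hb⟩
  have hB' : ∀ N ∈ ℰ, N ≠ 0 → ∃ M ∈ 𝒜, M * N = 1 ∧ N * M = 1 := by
    rintro _ ⟨b, rfl⟩ hb
    obtain ⟨a, ha⟩ := hτ.2 b.toMul
    have ha1 : a ≠ 1 := fun e => hb (by show E b.toMul = 0; rw [← ha]; simp [τ, e, hE0])
    have e1 := (hpair' a ha1).choose_spec
    simp only [τ, dif_neg ha1] at ha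
    rw [ha] at e1
    exact ⟨_, ⟨Additive.ofMul a, rfl⟩, mul_eq_one_comm.1 e1, e1⟩
  have hsub : ∀ N ∈ ℰ, N ∈ 𝒜 := fun N hN => by simpa using mul_mul_mem hA' hB' h1mem hN
  have hinv : ∀ M ∈ 𝒜, M ≠ 0 → ∃ N ∈ 𝒜, M * N = 1 ∧ N * M = 1 := fun M hM hM0 => by
    obtain ⟨N, hN, h⟩ := hA' M hM hM0; exact ⟨N, hsub N hN, h⟩
  have hmul := field_of_inv_closed h1mem hinv
  -- the field
  let S : Subring (Matrix (Fin n) (Fin n) (ZMod p)) :=
    { 𝒜 with one_mem' := h1mem, mul_mem' := fun {a b} ha hb => (hmul a ha b hb).1 }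
  have hSA : Function.Bijective fun a : A => (⟨D a, Additive.ofMul a, rfl⟩ : S) :=
    ⟨fun a b h => hDinj (congrArg Subtype.val h), fun ⟨M, a, ha⟩ => ⟨a.toMul, Subtype.ext ha⟩⟩
  have hpos : 0 < n := by
    by_contra h
    have hn : n = 0 := by omega
    haveI : Subsingleton Y := κ.symm.toEquiv.subsingleton_congr.2 (by rw [hn]; infer_instance)
    haveI : Subsingleton A := Finite.card_le_one_iff_subsingleton.1 (hcardA ▸ Finite.card_le_one_iff_subsingleton.2 this)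
    exact ha₀1 (congrArg Subtype.val (Subsingleton.elim (⟨a₀, ha₀⟩ : A) 1))
  haveI : Nonempty (Fin n) := ⟨⟨0, hpos⟩⟩
  haveI : Nontrivial S := ⟨⟨0, 1, fun h => zero_ne_one (congrArg Subtype.val h :)⟩⟩
  have hField : IsField S :=
    { exists_pair_ne := exists_pair_ne _
      mul_comm := fun a b => Subtype.ext (hmul a.1 a.2 b.1 b.2).2
      mul_inv_cancel := fun {a} ha => by
        obtain ⟨N, hN, h, -⟩ := hinv a.1 a.2 fun e => ha (Subtype.ext e)
        exact ⟨⟨N, hN⟩, Subtype.ext h⟩ }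
  letI : Field S := hField.toField
  haveI : Fintype S := Fintype.ofFinite S
  have hcardS : Fintype.card S = Nat.card A := by
    rw [← Nat.card_eq_fintype_card, Nat.card_eq_of_bijective _ hSA]
  let e₀ : Fin n → ZMod p := Pi.single ⟨0, hpos⟩ 1
  have he₀ : e₀ ≠ 0 := fun h => by simpa [e₀] using congrFun h ⟨0, hpos⟩
  let η₀ : S →+ (Fin n → ZMod p) := AddMonoidHom.mk' (fun f => f.1 *ᵥ e₀) fun f g => by
    rw [Subring.coe_add, Matrix.add_mulVec]
  have hη₀ : Function.Bijective η₀ := by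
    refine (Nat.bijective_iff_injective_and_card η₀).2 ⟨(injective_iff_map_eq_zero η₀).2 fun f hf => ?_, ?_⟩
    · by_contra hne
      obtain ⟨N, -, -, hN⟩ := hinv f.1 f.2 fun e => hne (Subtype.ext e)
      apply he₀
      rw [← Matrix.one_mulVec e₀, ← hN, ← Matrix.mulVec_mulVec]
      show N *ᵥ (η₀ f) = 0
      rw [hf, Matrix.mulVec_zero]
    · rw [Nat.card_eq_fintype_card, hcardS, hcardA, Nat.card_congr κ.toEquiv]
  let η := AddEquiv.ofBijective η₀ hη₀
  let ω₀ : (Fin 2 → S) →+ W :=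
    AddMonoidHom.mk' (fun c => ε (η (c 0), η (c 1))) fun c d => by
      rw [← map_add, Prod.mk_add_mk, ← map_add, ← map_add]; rfl
  have hω : Function.Bijective ω₀ := by
    refine ⟨(injective_iff_map_eq_zero ω₀).2 fun c hc => ?_, fun w => ?_⟩
    · have h := (map_eq_zero_iff ε ε.injective).1 hc
      rw [Prod.mk_eq_zero] at h
      funext i
      fin_cases i
      · exact (map_eq_zero_iff η η.injective).1 h.1
      · exact (map_eq_zero_iff η η.injective).1 h.2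
    · obtain ⟨⟨u, v⟩, rfl⟩ := ε.surjective w
      exact ⟨![η.symm u, η.symm v], by simp [ω₀]⟩
  let ω := AddEquiv.ofBijective ω₀ hω
  have hAact : ∀ (a : A) (c : Fin 2 → S),
      ρ a (ω c) = ω ((upperUni (⟨D a, Additive.ofMul a, rfl⟩ : S)).1 *ᵥ c) := by
    intro a c
    rw [upperUni_mulVec]
    show ρ a (ε (η (c 0), η (c 1))) = ε (η (_ : S), η (_ : S))
    rw [hD]
    simp [η, η₀, Matrix.add_mulVec, Matrix.mulVec_mulVec]
  have hBact : ∀ (b : B) (c : Fin 2 → S),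
      ρ b (ω c) = ω ((lowerUni (⟨E b, hsub _ ⟨Additive.ofMul b, rfl⟩⟩ : S)).1 *ᵥ c) := by
    intro b c
    rw [lowerUni_mulVec]
    show ρ b (ε (η (c 0), η (c 1))) = ε (η (_ : S), η (_ : S))
    rw [hE]
    simp [η, η₀, Matrix.add_mulVec, Matrix.mulVec_mulVec]
  have hex : ∀ g : G, ∃ M : SL(2, S), ∀ c, ρ g (ω c) = ω (M.1 *ᵥ c) := by
    intro g
    have hg : g ∈ Subgroup.closure ((A : Set G) ∪ B) := by
      rw [Subgroup.closure_union, Subgroup.closure_eq, Subgroup.closure_eq, hgen]; trivial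
    induction hg using Subgroup.closure_induction with
    | mem x hx =>
      rcases hx with hx | hx
      · exact ⟨_, hAact ⟨x, hx⟩⟩
      · exact ⟨_, hBact ⟨x, hx⟩⟩
    | one => exact ⟨1, fun c => by
        show ρ 1 (ω c) = ω ((1 : Matrix (Fin 2) (Fin 2) S) *ᵥ c)
        rw [map_one, Matrix.one_mulVec]; rfl⟩
    | mul x y _ _ hx hy =>
      obtain ⟨M, hM⟩ := hx
      obtain ⟨N, hN⟩ := hy
      refine ⟨M * N, fun c => ?_⟩
      show ρ (x * y) (ω c) = ω ((M.1 * N.1) *ᵥ c)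
      rw [map_mul, ← Matrix.mulVec_mulVec, ← hM, ← hN]; rfl
    | inv x _ hx =>
      obtain ⟨M, hM⟩ := hx
      refine ⟨M⁻¹, fun c => ?_⟩
      have h := hM ((M⁻¹).1 *ᵥ c)
      rw [Matrix.mulVec_mulVec, show M.1 * (M⁻¹).1 = 1 from congrArg Subtype.val (mul_inv_cancel M),
        Matrix.one_mulVec] at h
      rw [← h]
      show (ρ x⁻¹ * ρ x) _ = _
      rw [← map_mul, inv_mul_cancel, map_one]; rfl
  choose φ₀ hφ₀ using hex
  have huniq : ∀ g (M : SL(2, S)), (∀ c, ρ g (ω c) = ω (M.1 *ᵥ c)) → φ₀ g = M := fun g M h =>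
    Subtype.ext (Matrix.ext_iff_mulVec.2 fun c => ω.injective ((hφ₀ g c).symm.trans (h c)))
  let φ₁ : G →* SL(2, S) :=
    { toFun := φ₀
      map_one' := huniq 1 1 fun c => by
        show ρ 1 (ω c) = ω ((1 : Matrix (Fin 2) (Fin 2) S) *ᵥ c)
        rw [map_one, Matrix.one_mulVec]; rfl
      map_mul' := fun g h => huniq _ _ fun c => by
        show ρ (g * h) (ω c) = ω (((φ₀ g).1 * (φ₀ h).1) *ᵥ c)
        rw [map_mul, ← Matrix.mulVec_mulVec, ← hφ₀, ← hφ₀]; rfl }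
  have hφ : Function.Bijective φ₁ := by
    refine ⟨(injective_iff_map_eq_one φ₁).2 fun g hg => hinj (AddMonoidHom.ext fun w => ?_), ?_⟩
    · obtain ⟨c, rfl⟩ := ω.surjective w
      show (ρ g) (ω c) = (ρ 1) (ω c)
      rw [hφ₀, show φ₀ g = 1 from hg, map_one]
      show ω ((1 : Matrix (Fin 2) (Fin 2) S) *ᵥ c) = ω c
      rw [Matrix.one_mulVec]
    · rw [← MonoidHom.range_eq_top]
      refine sl_eq_top_of_transvections fun i j hij c => ?_
      fin_cases i <;> fin_cases j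
      · exact absurd rfl hij
      · obtain ⟨a, ha⟩ := hSA.2 c
        exact ⟨a.1, huniq _ _ fun d => ha ▸ hAact a d⟩
      · obtain ⟨N, hN, -, -⟩ := hA' 1 h1mem one_ne_zero
        rcases eq_or_ne c 0 with rfl | hc
        · exact ⟨1, by rw [map_one, Matrix.SpecialLinearGroup.transvection_coeff_zero]⟩
        obtain ⟨M, hM, hcM, -⟩ := hinv c.1 c.2 fun e => hc (Subtype.ext e)
        obtain ⟨N', ⟨b, hb⟩, -, hNM⟩ := hA' M hM fun e => by
          rw [e, mul_zero] at hcM; exact zero_ne_one hcM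
        obtain rfl : (⟨E b.toMul, hsub _ ⟨b, rfl⟩⟩ : S) = c := Subtype.ext (by
          show Eh b = c.1
          rw [hb]; exact (left_inv_eq_right_inv hNM (mul_eq_one_comm.1 hcM)))
        exact ⟨b.toMul.1, huniq _ _ fun d => hBact b.toMul d⟩
      · exact absurd rfl hij
  refine ⟨S, inferInstance, inferInstance, MulEquiv.ofBijective φ₁ hφ, ω.symm, hcardS, fun g w => ?_⟩
  obtain ⟨c, rfl⟩ := ω.surjective w
  rw [hφ₀, AddEquiv.symm_apply_apply, AddEquiv.symm_apply_apply]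
  rfl

end CfsgLib.SL2Recognition
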