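/-
A strict quadratic offender, generating a `p`-minimal group with one conjugate, is a root group of `SL₂(F)` on
its natural module.
-/
import Cfsg.Agent.SL2Recognition.Pairing
import Cfsg.Agent.LocalEvenBasic.SylowNormal
import Mathlib.GroupTheory.QuotientGroup.Basic

set_option autoImplicit false
set_option linter.style.haveILetI false

namespace CfsgLib.SL2Recognition

open Subgroup
open scoped MatrixGroups Pointwise

variable {P V : Type*} [Group P] [AddCommGroup V] (σ : P →* AddMonoid.End V)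

theorem apply_mul (g h : P) (v : V) : σ (g * h) v = σ g (σ h v) := by rw [map_mul]; rfl

theorem apply_one (v : V) : σ 1 v = v := by rw [map_one]; rfl

theorem apply_inv_apply (g : P) (v : V) : σ g⁻¹ (σ g v) = v := by
  rw [← apply_mul, inv_mul_cancel, apply_one]

theorem apply_apply_inv (g : P) (v : V) : σ g (σ g⁻¹ v) = v := by
  rw [← apply_mul, mul_inv_cancel, apply_one]

theorem apply_injective (g : P) : Function.Injective (σ g) := fun v w h => by
  rw [← apply_inv_apply σ g v, h, apply_inv_apply]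

/-- The vectors fixed by `H`. -/
def fix (H : Subgroup P) : AddSubgroup V where
  carrier := {v | ∀ h ∈ H, σ h v = v}
  zero_mem' := fun _ _ => map_zero _
  add_mem' := fun {v w} hv hw h hh => by rw [map_add, hv h hh, hw h hh]
  neg_mem' := fun {v} hv h hh => by rw [map_neg, hv h hh]

theorem mem_fix {H : Subgroup P} {v : V} : v ∈ fix σ H ↔ ∀ h ∈ H, σ h v = v := Iff.rfl

theorem fix_anti {H K : Subgroup P} (h : H ≤ K) : fix σ K ≤ fix σ H := fun _ hv x hx => hv x (h hx)

theorem mem_fix_conj {H : Subgroup P} {g : P} {v : V} :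
    v ∈ fix σ (H.map (MulAut.conj g).toMonoidHom) ↔ σ g⁻¹ v ∈ fix σ H := by
  refine ⟨fun h x hx => ?_, fun h y hy => ?_⟩
  · have h' : σ (g * x * g⁻¹) v = v := h _ ⟨x, hx, rfl⟩
    rw [apply_mul, apply_mul] at h'
    conv_rhs => rw [← h', apply_inv_apply]
  · obtain ⟨x, hx, rfl⟩ := hy
    show σ (g * x * g⁻¹) v = v
    rw [apply_mul, apply_mul, h x hx, apply_apply_inv]

theorem mem_fix_of_generate {A B : Subgroup P} (h : A ⊔ B = ⊤) {v : V} (hA : v ∈ fix σ A)
    (hB : v ∈ fix σ B) : v ∈ fix σ ⊤ := by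
  let S : Subgroup P :=
    { carrier := {g | σ g v = v}
      one_mem' := apply_one σ v
      mul_mem' := fun {g k} hg hk => by
        show σ (g * k) v = v
        rw [apply_mul, show σ k v = v from hk, show σ g v = v from hg]
      inv_mem' := fun {g} hg => by
        show σ g⁻¹ v = v
        conv_lhs => rw [← show σ g v = v from hg]
        rw [apply_inv_apply] }
  intro g _
  exact (show (⊤ : Subgroup P) ≤ S by rw [← h]; exact sup_le hA hB) (mem_top g)

theorem sub_mem_of_generate {A B : Subgroup P} (h : A ⊔ B = ⊤) {U R : AddSubgroup V}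
    (hU : ∀ g, ∀ u ∈ U, σ g u ∈ U) (hA : ∀ a ∈ A, ∀ u ∈ U, σ a u - u ∈ R)
    (hB : ∀ b ∈ B, ∀ u ∈ U, σ b u - u ∈ R) (g : P) : ∀ u ∈ U, σ g u - u ∈ R := by
  let S : Subgroup P :=
    { carrier := {g | ∀ u ∈ U, σ g u - u ∈ R}
      one_mem' := fun u _ => by rw [apply_one, sub_self]; exact zero_mem R
      mul_mem' := fun {g k} hg hk u hu => by
        have e : σ (g * k) u - u = (σ g (σ k u) - σ k u) + (σ k u - u) := by rw [apply_mul]; abel
        rw [e]; exact add_mem (hg _ (hU k u hu)) (hk u hu)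
      inv_mem' := fun {g} hg u hu => by
        have e : σ g⁻¹ u - u = -(σ g (σ g⁻¹ u) - σ g⁻¹ u) := by rw [apply_apply_inv]; abel
        rw [e]; exact neg_mem (hg _ (hU _ u hu)) }
  exact (show (⊤ : Subgroup P) ≤ S by rw [← h]; exact sup_le hA hB) (mem_top g)

theorem card_sup_mul_inf [Finite V] (S U : AddSubgroup V) :
    Nat.card ↥(S ⊔ U) * Nat.card ↥(S ⊓ U) = Nat.card S * Nat.card U := by
  classical
  let f : S × U →+ ↥(S ⊔ U) :=
    AddMonoidHom.mk' (fun c => ⟨c.1.1 + c.2.1, AddSubgroup.add_mem_sup c.1.2 c.2.2⟩) fun c d =>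
      Subtype.ext (by simp only [Prod.fst_add, Prod.snd_add, AddSubgroup.coe_add]; abel)
  have hf : Function.Surjective f := fun ⟨x, hx⟩ => by
    obtain ⟨s, hs, u, hu, rfl⟩ := AddSubgroup.mem_sup.1 hx
    exact ⟨(⟨s, hs⟩, ⟨u, hu⟩), rfl⟩
  have e1 : ↥(S ⊓ U) ≃ f.ker := Equiv.ofBijective
    (fun x => ⟨(⟨x.1, x.2.1⟩, ⟨-x.1, U.neg_mem x.2.2⟩), Subtype.ext (by simp [f])⟩)
    ⟨fun x y h => Subtype.ext (congrArg (fun c => c.1.1.1) h :), fun ⟨⟨s, u⟩, h⟩ => by
      have h' : (s : V) + u = 0 := congrArg Subtype.val h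
      refine ⟨⟨s, s.2, ?_⟩, Subtype.ext (Prod.ext rfl (Subtype.ext ?_))⟩
      · rw [eq_neg_of_add_eq_zero_left h']; exact U.neg_mem u.2
      · exact (eq_neg_of_add_eq_zero_right h').symm⟩
  have h := AddSubgroup.card_eq_card_quotient_mul_card_addSubgroup f.ker
  rw [Nat.card_congr (QuotientAddGroup.quotientKerEquivOfSurjective f hf).toEquiv, ← Nat.card_congr e1,
    Nat.card_prod] at h
  exact h.symm

section Main

variable [Finite P] [Finite V] {p : ℕ} [Fact p.Prime] (hinj : Function.Injective σ)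
  (T : Sylow p P) (M : Subgroup P) (hM : IsCoatom M)
  (hTM : (T : Subgroup P) ≤ M) (huniq : ∀ N : Subgroup P, IsCoatom N → (T : Subgroup P) ≤ N → N = M)
  (A : Subgroup P) (hAT : A ≤ (T : Subgroup P))
  (hquad : ∀ a ∈ A, ∀ b ∈ A, ∀ v, σ a (σ b v - v) = σ b v - v)
  (hle : Nat.card V ≤ Nat.card A * Nat.card (fix σ A))
  (hstrict : ∀ A₀ : Subgroup P, A₀ ≤ A → A₀ ≠ ⊥ → A₀ ≠ A →
    Nat.card A₀ * Nat.card (fix σ A₀) < Nat.card A * Nat.card (fix σ A))
  (hT : ∃ v ∈ fix σ (T : Subgroup P), v ∉ fix σ ⊤)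
  (hgenA : ∀ x : P, x ∉ M → A ⊔ A.map (MulAut.conj x).toMonoidHom = ⊤)

include hinj hM hTM huniq hAT hquad hle hstrict hT hgenA

/-- The recognition theorem, needing only that `A` fixes the multiples of `p`. -/
theorem exists_natural_of_smul (hpA : ∀ a ∈ A, ∀ v : V, σ a (p • v) = p • v) :
    ∃ (F : Type) (_ : Field F) (_ : Fintype F) (φ : P ≃* SL(2, F)) (ψ : V →+ (Fin 2 → F)),
      Fintype.card F = Nat.card A ∧ Function.Surjective ψ ∧ (∀ v, ψ v = 0 ↔ v ∈ fix σ ⊤) ∧
        (∀ g v, ψ (σ g v) = (φ g).1.mulVec (ψ v)) ∧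
        fix σ A = AddSubgroup.closure {v | ∃ a ∈ A, ∃ u, v = σ a u - u} ⊔ fix σ ⊤ := by
  classical
  obtain ⟨v₀, hv₀, hv₀n⟩ := hT
  obtain ⟨x₀, hx₀⟩ : ∃ x, x ∉ M := by
    by_contra h
    push Not at h
    exact hM.1 (eq_top_iff.2 fun x _ => h x)
  set C₀ := fix σ (⊤ : Subgroup P) with hC₀def
  have hC₀ : ∀ g, ∀ v ∈ C₀, σ g v = v := fun g v hv => hv g (mem_top g)
  have hv₀A : v₀ ∈ fix σ A := fix_anti σ hAT hv₀
  set U : AddSubgroup V := C₀ ⊔ AddSubgroup.closure (Set.range fun g => σ g v₀) with hUdef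
  have horb : ∀ g, σ g v₀ ∈ U := fun g =>
    le_sup_right (a := C₀) (AddSubgroup.subset_closure ⟨g, rfl⟩)
  have hv₀U : v₀ ∈ U := by simpa [apply_one] using horb 1
  have hC₀U : C₀ ≤ U := le_sup_left
  have hU : ∀ g, ∀ u ∈ U, σ g u ∈ U := by
    intro g
    suffices h : U ≤ U.comap (σ g : V →+ V) from fun u hu => h hu
    refine sup_le (fun v hv => ?_) ((AddSubgroup.closure_le _).2 ?_)
    · show σ g v ∈ U
      rw [hC₀ g v hv]; exact hC₀U hv
    · rintro _ ⟨h, rfl⟩
      show σ g (σ h v₀) ∈ U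
      rw [← apply_mul]; exact horb _
  set X := U ⊓ fix σ A with hXdef
  set B := A.map (MulAut.conj x₀).toMonoidHom with hBdef
  set Y := U ⊓ fix σ B with hYdef
  have hgen := hgenA x₀ hx₀
  have hXU : X ≤ U := inf_le_left
  have hC₀X : C₀ ≤ X := le_inf hC₀U (fix_anti σ le_top)
  have hC₀Y : C₀ ≤ Y := le_inf hC₀U (fix_anti σ le_top)
  have hXY : X ⊓ Y = C₀ :=
    le_antisymm (fun v hv => mem_fix_of_generate σ hgen hv.1.2 hv.2.2) (le_inf hC₀X hC₀Y)
  have hXconj : ∀ {g : P} {v : V}, v ∈ X → σ g v ∈ U ⊓ fix σ (A.map (MulAut.conj g).toMonoidHom) :=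
    fun {g v} hv => ⟨hU g v hv.1, (mem_fix_conj σ).2 (by rw [apply_inv_apply]; exact hv.2)⟩
  have hYX : ∀ {v : V}, v ∈ Y → σ x₀⁻¹ v ∈ X := fun {v} hv => ⟨hU _ v hv.1, (mem_fix_conj σ).1 hv.2⟩
  have hquadB : ∀ b ∈ B, ∀ b' ∈ B, ∀ v, σ b (σ b' v - v) = σ b' v - v := by
    rintro _ ⟨a, ha, rfl⟩ _ ⟨a', ha', rfl⟩ v
    show σ (x₀ * a * x₀⁻¹) (σ (x₀ * a' * x₀⁻¹) v - v) = σ (x₀ * a' * x₀⁻¹) v - v
    have e : σ (x₀ * a' * x₀⁻¹) v - v = σ x₀ (σ a' (σ x₀⁻¹ v) - σ x₀⁻¹ v) := by
      rw [map_sub, apply_mul, apply_mul, apply_apply_inv]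
    rw [e, apply_mul, apply_mul, apply_inv_apply, hquad a ha a' ha']
  have hpC : ∀ v : V, p • v ∈ C₀ := fun v => mem_fix_of_generate σ hgen
    (fun a ha => hpA a ha v) ((mem_fix_conj σ).2 (by
      rw [map_nsmul]; exact fun a ha => hpA a ha _))
  -- `U` is spanned by the commutators and the fixed points of the whole group
  set R : AddSubgroup V := AddSubgroup.closure {v | ∃ a ∈ A, ∃ u ∈ U, v = σ a u - u} ⊔
    AddSubgroup.closure {v | ∃ b ∈ B, ∃ u ∈ U, v = σ b u - u} ⊔ C₀ with hRdef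
  have hRg : ∀ g, ∀ u ∈ U, σ g u - u ∈ R := sub_mem_of_generate σ hgen hU
    (fun a ha u hu => le_sup_left (b := C₀) (le_sup_left (α := AddSubgroup V) (AddSubgroup.subset_closure ⟨a, ha, u, hu, rfl⟩)))
    (fun a ha u hu => le_sup_left (b := C₀) (le_sup_right (α := AddSubgroup V) (AddSubgroup.subset_closure ⟨a, ha, u, hu, rfl⟩)))
  have hv₀R : v₀ ∈ R := by
    haveI : Fintype (P ⧸ (T : Subgroup P)) := Fintype.ofFinite _
    let f : P ⧸ (T : Subgroup P) → V := Quotient.lift (fun g => σ g v₀) fun g h hgh => by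
      have := hv₀ _ (QuotientGroup.leftRel_apply.1 hgh)
      show σ g v₀ = σ h v₀
      conv_lhs => rw [← this]
      rw [apply_mul, apply_apply_inv]
    have hf : ∀ g q, σ g (f q) = f (g • q) := fun g q => by
      induction q using QuotientGroup.induction_on with
      | _ h => exact (apply_mul σ g h v₀).symm
    have hNfix : ∑ q, f q ∈ C₀ := fun g _ => by
      rw [map_sum]; simp only [hf]
      exact (MulAction.bijective g).sum_comp f
    have hdiff : ∀ q, f q - v₀ ∈ R := fun q => by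
      induction q using QuotientGroup.induction_on with
      | _ g => exact hRg g v₀ hv₀U
    have hk : Fintype.card (P ⧸ (T : Subgroup P)) • v₀ ∈ R := by
      have e : Fintype.card (P ⧸ (T : Subgroup P)) • v₀ = ∑ q, f q - ∑ q, (f q - v₀) := by
        rw [Finset.sum_sub_distrib, sub_sub_cancel, Finset.sum_const, Finset.card_univ]
      rw [e]
      exact sub_mem (le_sup_right (a := AddSubgroup.closure _ ⊔ AddSubgroup.closure _) hNfix)
        (sum_mem fun q _ => hdiff q)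
    have hcop : Nat.Coprime (Fintype.card (P ⧸ (T : Subgroup P))) p := by
      rw [← Nat.card_eq_fintype_card, Nat.coprime_comm, (Fact.out : p.Prime).coprime_iff_not_dvd]
      exact T.not_dvd_index
    have hb := Nat.gcd_eq_gcd_ab (Fintype.card (P ⧸ (T : Subgroup P))) p
    rw [hcop.gcd_eq_one] at hb
    have : v₀ = (Nat.gcdA (Fintype.card (P ⧸ (T : Subgroup P))) p) •
        (Fintype.card (P ⧸ (T : Subgroup P)) • v₀)
        + (Nat.gcdB (Fintype.card (P ⧸ (T : Subgroup P))) p) • (p • v₀) := by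
      conv_lhs => rw [← one_zsmul v₀, show (1 : ℤ) = ((1 : ℕ) : ℤ) from rfl, hb, add_zsmul, mul_zsmul', mul_zsmul',
        natCast_zsmul, natCast_zsmul]
    rw [this]
    exact add_mem (zsmul_mem hk _) (zsmul_mem (le_sup_right (a := AddSubgroup.closure _ ⊔ AddSubgroup.closure _) (hpC v₀)) _)
  have hUR : U ≤ R := sup_le le_sup_right ((AddSubgroup.closure_le _).2 (by
    rintro _ ⟨g, rfl⟩
    simpa using add_mem (hRg g v₀ hv₀U) hv₀R))
  set XA := AddSubgroup.closure {v | ∃ a ∈ A, ∃ u ∈ U, v = σ a u - u} ⊔ C₀ with hXAdef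
  have hXAX : XA ≤ X := sup_le ((AddSubgroup.closure_le _).2 (by
    rintro _ ⟨a, ha, u, hu, rfl⟩
    exact ⟨U.sub_mem (hU a u hu) hu, fun a' ha' => hquad a' ha' a ha u⟩)) hC₀X
  have hYB : AddSubgroup.closure {v | ∃ b ∈ B, ∃ u ∈ U, v = σ b u - u} ≤ Y :=
    (AddSubgroup.closure_le _).2 (by
      rintro _ ⟨b, hb, u, hu, rfl⟩
      exact ⟨U.sub_mem (hU b u hu) hu, fun b' hb' => hquadB b' hb' b hb u⟩)
  have hUsup : ∀ u ∈ U, ∃ x ∈ XA, ∃ y ∈ Y, x + y = u := fun u hu => by
    obtain ⟨w, hw, c, hc, rfl⟩ := AddSubgroup.mem_sup.1 (hUR hu)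
    obtain ⟨a, ha, b, hb, rfl⟩ := AddSubgroup.mem_sup.1 hw
    exact ⟨a + c, AddSubgroup.add_mem_sup ha hc, b, hYB hb, by abel⟩
  have hXeq : X ≤ XA := fun x hx => by
    obtain ⟨a, ha, b, hb, rfl⟩ := hUsup x (hXU hx)
    have : b ∈ C₀ := hXY.le ⟨by simpa using sub_mem hx (hXAX ha), hb⟩
    exact add_mem ha (le_sup_right (a := AddSubgroup.closure _) this)
  have hconjcard : ∀ g, Nat.card ↥(U ⊓ fix σ (A.map (MulAut.conj g).toMonoidHom)) = Nat.card X := fun g =>
    Nat.card_congr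
      { toFun := fun v => ⟨σ g⁻¹ v.1, hU _ _ v.2.1, (mem_fix_conj σ).1 v.2.2⟩
        invFun := fun v => ⟨σ g v.1, hXconj v.2⟩
        left_inv := fun v => Subtype.ext (apply_apply_inv σ g v.1)
        right_inv := fun v => Subtype.ext (apply_inv_apply σ g v.1) }
  -- elements of `A` outside the conjugates of `M` are injective on `U / X`
  have hgood : ∀ a ∈ A, x₀⁻¹ * a * x₀ ∉ M → ∀ u ∈ U, σ a u - u ∈ C₀ → u ∈ X := by
    intro a _ haM u hu hau
    obtain ⟨x, hx, y, hy, rfl⟩ := hUsup u hu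
    have h1 : σ a y - y ∈ C₀ := by
      have : σ a x = x := (hXAX hx).2 a ‹a ∈ A›
      rw [map_add, this] at hau; simpa using hau
    have h2 : σ a y ∈ Y := by simpa using add_mem (hC₀Y h1) hy
    have h3 : σ (x₀⁻¹ * a * x₀) (σ x₀⁻¹ y) = σ x₀⁻¹ (σ a y) := by
      rw [apply_mul, apply_apply_inv, apply_mul]
    have h4 := hYX h2
    rw [← h3] at h4
    have h5 : σ x₀⁻¹ (σ a y) ∈ C₀ := by
      rw [← h3]
      exact mem_fix_of_generate σ (hgenA _ haM) h4.2 (hXconj (hYX hy)).2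
    have h6 : σ a y ∈ C₀ := by
      rw [hC₀ _ _ h5 |>.symm.trans (apply_apply_inv σ x₀ _)] at h5; exact h5
    have h7 : y ∈ C₀ := by simpa using sub_mem h6 h1
    exact add_mem (hXAX hx) (hC₀X h7)
  -- a `p`-element of `A` in a conjugate of `M` fixes a vector outside `X`
  have hbad : ∀ a ∈ A, ∀ x, x ∉ M → x⁻¹ * a * x ∈ M → ∃ u ∈ U, u ∉ X ∧ σ a u = u := by
    intro a ha x hx haM
    have hpa : IsPGroup p (zpowers (⟨x⁻¹ * a * x, haM⟩ : M)) := by
      obtain ⟨k, hk⟩ := T.isPGroup' ⟨a, hAT ha⟩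
      have hy : (⟨x⁻¹ * a * x, haM⟩ : M) ^ p ^ k = 1 := Subtype.ext (by
        have ha' : a ^ p ^ k = 1 := congrArg Subtype.val hk
        show (x⁻¹ * a * x) ^ p ^ k = 1
        rw [show x⁻¹ * a * x = x⁻¹ * a * x⁻¹⁻¹ by group, conj_pow, ha']; group)
      rintro ⟨z, hz⟩
      obtain ⟨i, rfl⟩ := mem_zpowers_iff.1 hz
      refine ⟨k, Subtype.ext ?_⟩
      show ((⟨x⁻¹ * a * x, haM⟩ : M) ^ i) ^ p ^ k = 1
      rw [← zpow_natCast, zpow_comm, zpow_natCast, hy, one_zpow]
    obtain ⟨Q, hQ⟩ := hpa.exists_le_sylow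
    obtain ⟨h, hh⟩ := MulAction.exists_smul_eq M (T.subtype hTM) Q
    have hmem := hQ (mem_zpowers _)
    rw [← hh, Sylow.coe_subgroup_smul, mem_pointwise_smul_iff_inv_smul_mem] at hmem
    have hmem' : (h : P)⁻¹ * (x⁻¹ * a * x) * h ∈ (T : Subgroup P) := by
      simpa [MulAut.smul_def, mem_subgroupOf] using hmem
    refine ⟨σ (x * h) v₀, horb _, fun hX => ?_, ?_⟩
    · have hxh : x * (h : P) ∉ M := fun e => hx (by simpa using mul_mem e (inv_mem h.2))
      have h1 : σ (x * h) v₀ ∈ C₀ :=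
        mem_fix_of_generate σ (hgenA _ hxh) hX.2 (hXconj (g := x * (h : P)) ⟨hv₀U, hv₀A⟩).2
      rw [hC₀ _ _ h1 |>.symm.trans (apply_inv_apply σ (x * (h : P)) v₀) |>.symm] at hv₀n
      exact hv₀n h1
    · have e := hv₀ _ hmem'
      calc σ a (σ (x * h) v₀) = σ (x * h * ((h : P)⁻¹ * (x⁻¹ * a * x) * h)) v₀ := by
            rw [← apply_mul]; congr 2; group
        _ = σ (x * h) v₀ := by rw [apply_mul, e]
  -- elements of `A` with a fixed point outside `X` centralize `U`
  have hkill : ∀ a ∈ A, (∃ u ∈ U, u ∉ X ∧ σ a u = u) → ∀ u ∈ U, σ a u = u := by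
    rintro a ha ⟨u₁, hu₁, hu₁X, hau₁⟩
    have hall : ∀ g, g⁻¹ * a * g ∈ M := by
      intro g
      by_cases hg : g ∈ M
      · exact mul_mem (mul_mem (inv_mem hg) (hTM (hAT ha))) hg
      by_contra hc
      -- move the base point
      have hgenx := hgenA g hg
      obtain ⟨x, hx, y, hy, hxy⟩ := hUsup u₁ hu₁
      obtain ⟨y', hy', hy''⟩ : ∃ y' ∈ U ⊓ fix σ (A.map (MulAut.conj g).toMonoidHom), u₁ - y' ∈ X := by
        have hcard : ∀ u ∈ U, ∃ y' ∈ U ⊓ fix σ (A.map (MulAut.conj g).toMonoidHom), u - y' ∈ X := by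
          set Yg := U ⊓ fix σ (A.map (MulAut.conj g).toMonoidHom)
          have hYg : Nat.card Yg = Nat.card X := hconjcard g
          have hY₀ : Nat.card Y = Nat.card X := hconjcard x₀
          have hXYg : X ⊓ Yg = C₀ := le_antisymm (fun v hv => mem_fix_of_generate σ hgenx hv.1.2 hv.2.2)
            (le_inf hC₀X (le_inf hC₀U (fix_anti σ le_top)))
          have hUXY : X ⊔ Y = U := le_antisymm (sup_le hXU inf_le_left) fun u hu => by
            obtain ⟨x, hx, y, hy, rfl⟩ := hUsup u hu; exact AddSubgroup.add_mem_sup (hXAX hx) hy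
          have h1 := card_sup_mul_inf X Y
          have h2 := card_sup_mul_inf X Yg
          rw [hXY, hUXY, hY₀] at h1
          rw [hXYg, hYg, ← h1] at h2
          have hUg : X ⊔ Yg = U := by
            refine AddSubgroup.ext fun u => ?_
            have hle : X ⊔ Yg ≤ U := sup_le hXU inf_le_left
            have := AddSubgroup.eq_of_le_of_card_ge hle (Nat.eq_of_mul_eq_mul_right Nat.card_pos h2).ge
            rw [this]
          intro u hu
          obtain ⟨x, hx, y, hy, rfl⟩ := AddSubgroup.mem_sup.1 (hUg.ge hu)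
          exact ⟨y, hy, by simpa using hx⟩
        exact hcard u₁ hu₁
      have hay : σ a y' = y' := by
        have := hy''.2 a ha
        rw [map_sub, hau₁] at this
        simpa using this
      apply hu₁X
      have h3 : σ g⁻¹ y' ∈ fix σ A := (mem_fix_conj σ).1 hy'.2
      have h4 : σ g⁻¹ y' ∈ fix σ (A.map (MulAut.conj (g⁻¹ * a * g)).toMonoidHom) :=
        (mem_fix_conj σ).2 (by
          have e : σ (g⁻¹ * a * g)⁻¹ (σ g⁻¹ y') = σ g⁻¹ y' := by
            conv_lhs => rw [show σ g⁻¹ y' = σ (g⁻¹ * a * g) (σ g⁻¹ y') by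
              rw [apply_mul, apply_apply_inv, apply_mul, hay]]
            rw [apply_inv_apply]
          rw [e]; exact h3)
      have h5 := mem_fix_of_generate σ (hgenA _ hc) h3 h4
      have h6 : y' ∈ C₀ := by
        rw [hC₀ g _ h5 |>.symm.trans (apply_apply_inv σ g y')] at h5; exact h5
      simpa using add_mem hy'' (hC₀X h6)
    set N := M.normalCore
    have haN : a ∈ N := fun g => by simpa [mul_assoc] using hall g⁻¹
    set Q := (T : Subgroup P) ⊓ N
    obtain ⟨Q', hQ'⟩ := CfsgLib.LocalEvenBasic.exists_sylow_map_eq_inf T N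
    have hfr := Sylow.normalizer_sup_eq_top Q'
    rw [hQ'] at hfr
    have hQn : normalizer (Q : Set P) = ⊤ := by
      by_contra hne
      obtain ⟨M', hM', hle'⟩ := (eq_top_or_exists_le_coatom (normalizer (Q : Set P))).resolve_left hne
      have hTn : (T : Subgroup P) ≤ normalizer (Q : Set P) := fun t ht => by
        rw [mem_normalizer_iff]
        intro z
        constructor
        · rintro ⟨hz, hzN⟩
          exact ⟨(T : Subgroup P).mul_mem ((T : Subgroup P).mul_mem ht hz) ((T : Subgroup P).inv_mem ht), (inferInstance : N.Normal).conj_mem z hzN t⟩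
        · rintro ⟨hz, hzN⟩
          refine ⟨?_, ?_⟩
          · have := (T : Subgroup P).mul_mem ((T : Subgroup P).mul_mem ((T : Subgroup P).inv_mem ht) hz) ht
            rw [show t⁻¹ * (t * z * t⁻¹) * t = z by group] at this
            exact this
          · simpa [mul_assoc] using (inferInstance : N.Normal).conj_mem _ hzN t⁻¹
      have := huniq M' hM' (hTn.trans hle')
      subst this
      exact hM.1 (top_le_iff.1 (hfr ▸ sup_le hle' (normalCore_le _)))
    haveI hQN : Q.Normal := normalizer_eq_top_iff.1 hQn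
    have haQ : a ∈ Q := ⟨hAT ha, haN⟩
    intro u hu
    suffices h : U ≤ fix σ Q from h hu a haQ
    refine sup_le (fix_anti σ le_top) ((AddSubgroup.closure_le _).2 ?_)
    rintro _ ⟨g, rfl⟩ q hq
    have h1 := hv₀ _ (show g⁻¹ * q * g ∈ (T : Subgroup P) by
      have := hQN.conj_mem q hq g⁻¹; rw [inv_inv] at this; exact this.1)
    show σ q (σ g v₀) = σ g v₀
    calc σ q (σ g v₀) = σ g (σ (g⁻¹ * q * g) v₀) := by rw [← apply_mul, ← apply_mul]; congr 2; group
      _ = σ g v₀ := by rw [h1]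
  set u₀ := σ x₀ v₀ with hu₀def
  have hu₀Y : u₀ ∈ Y := hXconj ⟨hv₀U, hv₀A⟩
  have hu₀X : u₀ ∉ X := fun h => by
    have h1 : u₀ ∈ C₀ := hXY.le ⟨h, hu₀Y⟩
    rw [hC₀ _ _ h1 |>.symm.trans (apply_inv_apply σ x₀ v₀) |>.symm] at hv₀n
    exact hv₀n h1
  -- the kernel on `U`
  set K : Subgroup P := A ⊓
    { carrier := {g | ∀ u ∈ U, σ g u = u}
      one_mem' := fun u _ => apply_one σ u
      mul_mem' := fun {g h} hg hh u hu => by rw [apply_mul, hh u hu, hg u hu]
      inv_mem' := fun {g} hg u hu => by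
        conv_lhs => rw [← hg u hu]
        rw [apply_inv_apply] } with hKdef
  have hKA : K ≤ A := inf_le_left
  have hAne : ∀ a ∈ A, a ∉ K → x₀⁻¹ * a * x₀ ∉ M := fun a ha haK haM =>
    haK ⟨ha, hkill a ha (hbad a ha x₀ hx₀ haM)⟩
  -- the evaluation at `u₀`
  let XC := X ⧸ C₀.addSubgroupOf X
  let ev : A → XC := fun a => QuotientAddGroup.mk ⟨σ (a : P) u₀ - u₀,
    hXAX (le_sup_left (b := C₀) (AddSubgroup.subset_closure ⟨a, a.2, u₀, hu₀Y.1, rfl⟩))⟩
  have hev : ∀ a b : A, ev a = ev b → ((a : P)⁻¹ * b) ∈ K := by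
    intro a b h
    rw [QuotientAddGroup.eq, AddSubgroup.mem_addSubgroupOf] at h
    by_contra hK
    apply hu₀X
    have hab : ((a : P)⁻¹ * b) ∈ A := mul_mem (inv_mem a.2) b.2
    refine hgood _ hab (hAne _ hab hK) u₀ hu₀Y.1 ?_
    have h' : σ (b : P) u₀ - σ (a : P) u₀ ∈ C₀ := by
      have e : -(σ (a : P) u₀ - u₀) + (σ (b : P) u₀ - u₀) = σ (b : P) u₀ - σ (a : P) u₀ := by abel
      rw [← e]; exact h
    have e : σ ((a : P)⁻¹ * b) u₀ - u₀ = σ (a : P)⁻¹ (σ (b : P) u₀ - σ (a : P) u₀) := by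
      rw [map_sub, apply_inv_apply, apply_mul]
    rw [e, hC₀ _ _ h']; exact h'
  have hAK : Nat.card A * Nat.card C₀ ≤ Nat.card K * Nat.card X := by
    let g : A → XC × K := fun a => (ev a,
      ⟨((Function.invFun ev (ev a) : A) : P)⁻¹ * a, hev _ _ (Function.invFun_eq ⟨a, rfl⟩)⟩)
    have hg : Function.Injective g := fun a b h => by
      simp only [g, Prod.mk.injEq, Subtype.mk.injEq] at h
      rw [congrArg (fun x => ((Function.invFun ev x : A) : P)) h.1] at h
      exact Subtype.ext (mul_left_cancel h.2)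
    haveI : Nonempty A := ⟨1⟩
    have h := Nat.card_le_card_of_injective g hg
    rw [Nat.card_prod] at h
    have hX' : Nat.card X = Nat.card XC * Nat.card C₀ := by
      rw [AddSubgroup.card_eq_card_quotient_mul_card_addSubgroup (C₀.addSubgroupOf X),
        Nat.card_congr (AddSubgroup.addSubgroupOfEquivOfLe hC₀X).toEquiv]
    calc Nat.card A * Nat.card C₀ ≤ Nat.card XC * Nat.card K * Nat.card C₀ := Nat.mul_le_mul_right _ h
      _ = Nat.card K * Nat.card X := by rw [hX']; ring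
  have hYcard : Nat.card Y = Nat.card X := hconjcard x₀
  have hUXY : X ⊔ Y = U := le_antisymm (sup_le hXU inf_le_left) fun u hu => by
    obtain ⟨x, hx, y, hy, rfl⟩ := hUsup u hu; exact AddSubgroup.add_mem_sup (hXAX hx) hy
  have hUcard : Nat.card U * Nat.card C₀ = Nat.card X * Nat.card X := by
    have h := card_sup_mul_inf X Y
    rwa [hXY, hUXY, hYcard] at h
  set C := fix σ A with hCdef
  have hUC : Nat.card ↥(U ⊔ C) * Nat.card X = Nat.card U * Nat.card C := card_sup_mul_inf U C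
  have hK1 : K = ⊥ := by
    by_contra hK
    have hKA' : K ≠ A := fun e => hu₀X ⟨hu₀Y.1, fun a ha => (e.ge ha).2 u₀ hu₀Y.1⟩
    have hs := hstrict K hKA hK hKA'
    have hle2 : Nat.card ↥(U ⊔ C) ≤ Nat.card (fix σ K) := AddSubgroup.card_le_of_le
      (sup_le (fun u hu a ha => ha.2 u hu) (fix_anti σ hKA))
    have h1 : Nat.card K * Nat.card U * Nat.card C < Nat.card A * Nat.card X * Nat.card C := by
      calc Nat.card K * Nat.card U * Nat.card C = Nat.card K * Nat.card ↥(U ⊔ C) * Nat.card X := by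
            rw [mul_assoc, ← hUC, mul_assoc]
        _ ≤ Nat.card K * Nat.card (fix σ K) * Nat.card X := by gcongr
        _ < Nat.card A * Nat.card C * Nat.card X := Nat.mul_lt_mul_of_pos_right hs Nat.card_pos
        _ = _ := by ring
    have h2 : Nat.card K * Nat.card U < Nat.card A * Nat.card X := Nat.lt_of_mul_lt_mul_right h1
    have h3 : Nat.card K * (Nat.card U * Nat.card C₀) < Nat.card K * (Nat.card X * Nat.card X) := by
      calc Nat.card K * (Nat.card U * Nat.card C₀) = Nat.card K * Nat.card U * Nat.card C₀ := by ring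
        _ < Nat.card A * Nat.card X * Nat.card C₀ := Nat.mul_lt_mul_of_pos_right h2 Nat.card_pos
        _ = Nat.card A * Nat.card C₀ * Nat.card X := by ring
        _ ≤ Nat.card K * Nat.card X * Nat.card X := Nat.mul_le_mul_right _ hAK
        _ = _ := by ring
    rw [hUcard] at h3
    exact lt_irrefl _ h3
  rw [hK1, Subgroup.card_bot, one_mul] at hAK
  have hAinj : ∀ a ∈ A, a ≠ 1 → x₀⁻¹ * a * x₀ ∉ M := fun a ha ha1 =>
    hAne a ha fun h => ha1 (by rwa [hK1, mem_bot] at h)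
  have h4 : Nat.card V * Nat.card X ≤ Nat.card U * Nat.card C ∧ Nat.card A * Nat.card X ≤ Nat.card U := by
    have hb : Nat.card A * Nat.card X * Nat.card C₀ ≤ Nat.card U * Nat.card C₀ := by
      rw [hUcard]
      calc Nat.card A * Nat.card X * Nat.card C₀ = Nat.card A * Nat.card C₀ * Nat.card X := by ring
        _ ≤ _ := Nat.mul_le_mul_right _ hAK
    have hb' := Nat.le_of_mul_le_mul_right hb Nat.card_pos
    refine ⟨?_, hb'⟩
    calc Nat.card V * Nat.card X ≤ Nat.card A * Nat.card C * Nat.card X := Nat.mul_le_mul_right _ hle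
      _ = Nat.card A * Nat.card X * Nat.card C := by ring
      _ ≤ _ := Nat.mul_le_mul_right _ hb'
  have hUCtop : U ⊔ C = ⊤ := by
    refine AddSubgroup.eq_top_of_le_card _ ?_
    have := h4.1
    rw [← hUC] at this
    exact Nat.le_of_mul_le_mul_right this Nat.card_pos
  have hAX : Nat.card A * Nat.card C₀ = Nat.card X := by
    refine le_antisymm hAK ?_
    have h1 : Nat.card ↥(U ⊔ C) = Nat.card V := by rw [hUCtop]; exact AddSubgroup.card_top
    rw [h1] at hUC
    have h2 : Nat.card U * Nat.card C ≤ Nat.card A * Nat.card X * Nat.card C := by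
      rw [← hUC]
      calc Nat.card V * Nat.card X ≤ Nat.card A * Nat.card C * Nat.card X := Nat.mul_le_mul_right _ hle
        _ = _ := by ring
    have h3 := Nat.le_of_mul_le_mul_right h2 Nat.card_pos
    refine Nat.le_of_mul_le_mul_right ?_ (Nat.card_pos (α := X))
    calc Nat.card X * Nat.card X = Nat.card U * Nat.card C₀ := hUcard.symm
      _ ≤ Nat.card A * Nat.card X * Nat.card C₀ := Nat.mul_le_mul_right _ h3
      _ = _ := by ring
  -- the whole module is `U`
  have htriv : ∀ g, ∀ v, σ g v - v ∈ U := by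
    have hA' : ∀ a ∈ A, ∀ v ∈ (⊤ : AddSubgroup V), σ a v - v ∈ U := fun a ha v hv => by
      obtain ⟨u, hu, c, hc, rfl⟩ := AddSubgroup.mem_sup.1 (hUCtop.ge hv)
      rw [map_add, hc a ha]; simpa using sub_mem (hU a u hu) hu
    have hB' : ∀ b ∈ B, ∀ v ∈ (⊤ : AddSubgroup V), σ b v - v ∈ U := by
      rintro _ ⟨a, ha, rfl⟩ v -
      show σ (x₀ * a * x₀⁻¹) v - v ∈ U
      have h := hU x₀ _ (hA' a ha (σ x₀⁻¹ v) trivial)
      rwa [map_sub, apply_apply_inv, ← apply_mul, ← apply_mul] at h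
    exact fun g v => sub_mem_of_generate σ hgen (fun _ _ _ => AddSubgroup.mem_top _) hA' hB' g v trivial
  have hUtop : U = ⊤ := by
    rw [eq_top_iff, ← hUCtop]
    refine sup_le le_rfl fun c hc => ?_
    obtain ⟨x, hx, y, hy, hxy⟩ := hUsup _ (htriv x₀ c)
    have h1 : c + x ∈ fix σ B := by
      rw [show c + x = σ x₀ c - y by rw [← sub_add_cancel (σ x₀ c) c, ← hxy]; abel]
      exact sub_mem ((mem_fix_conj σ).2 (by rwa [apply_inv_apply])) hy.2
    simpa using sub_mem (hC₀U (mem_fix_of_generate σ hgen (add_mem hc (hXAX hx).2) h1)) (hXU (hXAX hx))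
  have hmemU : ∀ v, v ∈ U := fun v => hUtop ▸ AddSubgroup.mem_top v
  have hXC : X = C := by rw [hXdef, hUtop, top_inf_eq]
  -- the quotient by the fixed points
  have hC₀inv : ∀ g, C₀ ≤ C₀.comap (σ g : V →+ V) := fun g v hv => by
    show σ g v ∈ C₀
    rw [hC₀ g v hv]; exact hv
  let ρ : P →* AddMonoid.End (V ⧸ C₀) :=
    { toFun := fun g => QuotientAddGroup.map C₀ C₀ (σ g) (hC₀inv g)
      map_one' := AddMonoidHom.ext fun w => by
        induction w using QuotientAddGroup.induction_on with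
        | _ v => exact congrArg QuotientAddGroup.mk (apply_one σ v)
      map_mul' := fun g h => AddMonoidHom.ext fun w => by
        induction w using QuotientAddGroup.induction_on with
        | _ v => exact congrArg QuotientAddGroup.mk (apply_mul σ g h v) }
  have hρ : ∀ g (v : V), ρ g (v : V ⧸ C₀) = (σ g v : V) := fun _ _ => rfl
  have hρinj : Function.Injective ρ := by
    rw [injective_iff_map_eq_one]
    intro g hg
    have hker : ∀ v, σ g v - v ∈ C₀ := fun v => by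
      have := DFunLike.congr_fun hg (v : V ⧸ C₀)
      rw [hρ] at this
      exact QuotientAddGroup.eq_iff_sub_mem.1 this
    -- elements trivial on the quotient form a normal `p`-subgroup
    let N : Subgroup P := ρ.ker
    have hN : IsPGroup p N := fun ⟨n, hn⟩ => ⟨1, Subtype.ext (hinj (AddMonoidHom.ext fun v => by
      have hv : σ n v - v ∈ C₀ := by
        have := DFunLike.congr_fun (MonoidHom.mem_ker.1 hn) (v : V ⧸ C₀)
        rw [hρ] at this
        exact QuotientAddGroup.eq_iff_sub_mem.1 this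
      have hk : ∀ k : ℕ, σ (n ^ k) v = v + k • (σ n v - v) := by
        intro k
        induction k with
        | zero => simp [apply_one]
        | succ k ih =>
          rw [pow_succ', apply_mul, ih, map_add, map_nsmul, hC₀ n _ hv, succ_nsmul]; abel
      show σ (n ^ p ^ 1) v = σ 1 v
      rw [pow_one, hk, smul_sub, ← map_nsmul, hC₀ n _ (hpC v), sub_self, add_zero, apply_one]))⟩
    obtain ⟨R', hR'⟩ := hN.exists_le_sylow
    obtain ⟨y, hy⟩ := MulAction.exists_smul_eq P R' T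
    refine hinj (AddMonoidHom.ext fun v => ?_)
    suffices h : U ≤ fix σ N by
      show σ g v = σ 1 v
      rw [apply_one]; exact h (hmemU v) g hg
    refine sup_le (fix_anti σ le_top) ((AddSubgroup.closure_le _).2 ?_)
    rintro _ ⟨k, rfl⟩ n hn
    have hnT : k⁻¹ * n * k ∈ (T : Subgroup P) := by
      rw [← hy, Sylow.coe_subgroup_smul, mem_pointwise_smul_iff_inv_smul_mem]
      simp only [MulAut.smul_def, MulAut.inv_def, MulAut.conj_symm_apply]
      refine hR' ?_
      have h1 : k⁻¹ * n * k ∈ N := by simpa using (inferInstance : N.Normal).conj_mem n hn k⁻¹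
      simpa using (inferInstance : N.Normal).conj_mem _ h1 y⁻¹
    calc σ n (σ k v₀) = σ k (σ (k⁻¹ * n * k) v₀) := by rw [← apply_mul, ← apply_mul]; congr 2; group
      _ = σ k v₀ := by rw [hv₀ _ hnT]
  set π := QuotientAddGroup.mk' C₀
  have hqcard : ∀ S : AddSubgroup V, C₀ ≤ S → Nat.card S = Nat.card (S.map π) * Nat.card C₀ := by
    intro S hS
    let f : S →+ S.map π := π.addSubgroupMap S
    have hf : Function.Surjective f := π.addSubgroupMap_surjective S
    have e : f.ker = C₀.addSubgroupOf S := AddSubgroup.ext fun s => by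
      rw [AddMonoidHom.mem_ker, Subtype.ext_iff, AddSubgroup.mem_addSubgroupOf]
      exact QuotientAddGroup.eq_zero_iff _
    rw [AddSubgroup.card_eq_card_quotient_mul_card_addSubgroup f.ker,
      Nat.card_congr (QuotientAddGroup.quotientKerEquivOfSurjective f hf).toEquiv, e,
      Nat.card_congr (AddSubgroup.addSubgroupOfEquivOfLe hS).toEquiv]
  set X' := X.map π
  set Y' := Y.map π
  have hX' : Nat.card X' = Nat.card A := by
    refine Nat.eq_of_mul_eq_mul_right (Nat.card_pos (α := C₀)) ?_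
    rw [← hqcard X hC₀X, hAX]
  have hY' : Nat.card Y' = Nat.card A := by
    refine Nat.eq_of_mul_eq_mul_right (Nat.card_pos (α := C₀)) ?_
    rw [← hqcard Y hC₀Y, hYcard, hAX]
  have hXY' : X' ⊓ Y' = ⊥ := eq_bot_iff.2 fun w hw => by
    obtain ⟨⟨x, hx, rfl⟩, ⟨y, hy, he⟩⟩ := hw
    have h1 : y - x ∈ C₀ := QuotientAddGroup.eq_iff_sub_mem.1 he
    have h2 : x ∈ Y := by simpa using sub_mem hy (hC₀Y h1)
    exact (QuotientAddGroup.eq_zero_iff x).2 (hXY.le ⟨hx, h2⟩)
  have hsup' : X' ⊔ Y' = ⊤ := by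
    rw [← AddSubgroup.map_sup, hUXY, hUtop, AddSubgroup.map_top_of_surjective _ (QuotientAddGroup.mk'_surjective _)]
  have hBcard : Nat.card B = Nat.card A := card_map_of_injective (MulAut.conj x₀).injective
  have hA1 : A ≠ ⊥ := fun h => by
    have := hgenA x₀ hx₀
    rw [h, Subgroup.map_bot, bot_sup_eq] at this
    exact hv₀n fun g _ => by
      have hg : g ∈ (⊥ : Subgroup P) := this ▸ mem_top g
      rw [mem_bot.1 hg, apply_one]
  have hpair : ∀ a ∈ A, a ≠ 1 → ∃ b ∈ B, ∀ y ∈ Y', ρ b (ρ a y - y) = ρ a y := by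
    intro a ha ha1
    -- the cosets `σ b X`, `b ∈ B`, cover everything outside `Y`
    have hBM : ∀ b ∈ B, b ≠ 1 → b ∉ M := by
      rintro _ ⟨a', ha', rfl⟩ hb1 hbM
      have ha'1 : a' ≠ 1 := fun h => hb1 (by rw [h, map_one])
      have hx' : x₀⁻¹ ∉ M := fun h => hx₀ (by simpa using inv_mem h)
      have := hbad a' ha' x₀⁻¹ hx' (by simpa [mul_assoc] using hbM)
      exact ha'1 (by
        have h := hkill a' ha' this
        have : a' ∈ K := ⟨ha', h⟩
        rwa [hK1, mem_bot] at this)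
    let f : {w : X' // (w : V ⧸ C₀) ≠ 0} × B → {w : V ⧸ C₀ // w ∉ Y'} := fun r =>
      ⟨ρ r.2.1 r.1.1.1, fun hmem => r.1.2 (by
        obtain ⟨z, hz, hze⟩ := r.1.1.2
        obtain ⟨y, hy, hye⟩ := hmem
        have hbz : σ r.2.1 z ∈ Y := by
          have h1 : y - σ r.2.1 z ∈ C₀ := QuotientAddGroup.eq_iff_sub_mem.1 (by
            rw [show (r.1.1.1 : V ⧸ C₀) = (z : V) from hze.symm] at hye; exact hye)
          simpa using sub_mem hy (hC₀Y h1)
        have hzY : z ∈ Y := by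
          refine ⟨hmemU z, ?_⟩
          intro b' hb'
          apply apply_injective σ r.2.1
          rw [← apply_mul, show r.2.1 * b' = (r.2.1 * b' * r.2.1⁻¹) * r.2.1 by group, apply_mul]
          exact hbz.2 _ (mul_mem (mul_mem r.2.2 hb') (inv_mem r.2.2))
        rw [← hze]
        exact (QuotientAddGroup.eq_zero_iff z).2 (hXY.le ⟨hz, hzY⟩))⟩
    have hdisj : ∀ (g k : P), g⁻¹ * k ∉ M → ∀ z ∈ X, ∀ z' ∈ X, σ g z - σ k z' ∈ C₀ → z ∈ C₀ := by
      intro g k hgk z hz z' hz' h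
      have h1 : σ g⁻¹ (σ g z - σ k z') ∈ C₀ := by rw [hC₀ _ _ h]; exact h
      rw [map_sub, apply_inv_apply, ← apply_mul] at h1
      exact mem_fix_of_generate σ (hgenA _ hgk) hz.2 (by
        have := add_mem (fix_anti σ (le_top : (A.map (MulAut.conj (g⁻¹ * k)).toMonoidHom) ≤ ⊤) h1)
          (hXconj (g := g⁻¹ * k) hz').2
        simpa using this)
    have hfinj : Function.Injective f := by
      rintro ⟨⟨⟨w, hw⟩, hw0⟩, b⟩ ⟨⟨⟨w', hw'⟩, hw'0⟩, b'⟩ h
      obtain ⟨z, hz, rfl⟩ := hw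
      obtain ⟨z', hz', rfl⟩ := hw'
      have hd : σ b.1 z - σ b'.1 z' ∈ C₀ := QuotientAddGroup.eq_iff_sub_mem.1 (congrArg Subtype.val h)
      obtain rfl : b = b' := by
        by_contra hne
        refine hw0 ((QuotientAddGroup.eq_zero_iff z).2 (hdisj _ _ ?_ z hz z' hz' hd))
        exact hBM _ (mul_mem (inv_mem b.2) b'.2) fun e => hne (Subtype.ext (inv_mul_eq_one.1 e))
      have h1 : σ b.1⁻¹ (σ b.1 z - σ b.1 z') ∈ C₀ := by rw [hC₀ _ _ hd]; exact hd
      rw [map_sub, apply_inv_apply, apply_inv_apply] at h1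
      have : (z : V ⧸ C₀) = (z' : V) := QuotientAddGroup.eq_iff_sub_mem.2 h1
      exact Prod.ext (Subtype.ext (Subtype.ext this)) rfl
    have hcard : Nat.card ({w : X' // (w : V ⧸ C₀) ≠ 0} × B) = Nat.card {w : V ⧸ C₀ // w ∉ Y'} := by
      haveI : Fintype (V ⧸ C₀) := Fintype.ofFinite _
      haveI : Fintype X' := Fintype.ofFinite _
      haveI : Fintype Y' := Fintype.ofFinite _
      have h1 : Nat.card {w : X' // (w : V ⧸ C₀) ≠ 0} = Nat.card A - 1 := by
        rw [← hX', Nat.card_eq_fintype_card, Nat.card_eq_fintype_card]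
        simp only [ne_eq, ZeroMemClass.coe_eq_zero]
        rw [Fintype.card_subtype_compl, Fintype.card_subtype_eq]
      have h2 : Nat.card (V ⧸ C₀) = Nat.card A * Nat.card A := by
        have h := card_sup_mul_inf X' Y'
        rwa [hXY', hsup', AddSubgroup.card_top, AddSubgroup.card_bot, mul_one, hX', hY'] at h
      rw [Nat.card_prod, h1, hBcard, Nat.sub_mul, one_mul, ← h2]
      nth_rewrite 1 [← hY']
      rw [Nat.card_eq_fintype_card, Nat.card_eq_fintype_card, Nat.card_eq_fintype_card,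
        Fintype.card_subtype_compl]
    have hfsurj := ((Nat.bijective_iff_injective_and_card f).2 ⟨hfinj, hcard⟩).2
    have hfind : ∀ y ∈ Y', y ≠ 0 → ∃ b ∈ B, ρ b (ρ a y - y) = ρ a y ∧ ∃ z ∈ X, ∃ yv ∈ Y,
        (yv : V ⧸ C₀) = y ∧ σ b z - σ a yv ∈ C₀ ∧ z ∉ C₀ := by
      intro y hy hy0
      obtain ⟨yv, hyv, rfl⟩ := hy
      have hout : ρ a (yv : V ⧸ C₀) ∉ Y' := fun hm => by
        obtain ⟨y2, hy2, he⟩ := hm
        have h1 : σ a yv - y2 ∈ C₀ := QuotientAddGroup.eq_iff_sub_mem.1 he.symm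
        have h2 : σ a yv ∈ Y := by simpa using add_mem (hC₀Y h1) hy2
        have h3 : σ a yv - yv ∈ C₀ := hXY.le ⟨hXAX (le_sup_left (b := C₀)
          (AddSubgroup.subset_closure ⟨a, ha, yv, hmemU yv, rfl⟩)), Y.sub_mem h2 hyv⟩
        have h4 := hgood a ha (hAinj a ha ha1) yv (hmemU yv) h3
        exact hy0 ((QuotientAddGroup.eq_zero_iff yv).2 (hXY.le ⟨h4, hyv⟩))
      obtain ⟨⟨⟨⟨w, hw⟩, hw0⟩, b⟩, hb⟩ := hfsurj ⟨_, hout⟩
      obtain ⟨z, hz, rfl⟩ := hw
      have hb' : ρ b.1 (z : V ⧸ C₀) = ρ a (yv : V ⧸ C₀) := congrArg Subtype.val hb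
      refine ⟨b.1, b.2, ?_, z, hz, yv, hyv, rfl, QuotientAddGroup.eq_iff_sub_mem.1 hb',
        fun h => hw0 ((QuotientAddGroup.eq_zero_iff z).2 h)⟩
      -- compare the coordinates
      have hd1 : σ a yv - yv ∈ X := hXAX (le_sup_left (b := C₀)
        (AddSubgroup.subset_closure ⟨a, ha, yv, hmemU yv, rfl⟩))
      have hd2 : σ b.1 z - z ∈ Y := hYB (AddSubgroup.subset_closure ⟨b.1, b.2, z, hmemU z, rfl⟩)
      have hd3 : σ b.1 z - σ a yv ∈ C₀ := QuotientAddGroup.eq_iff_sub_mem.1 hb'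
      have hd4 : z - (σ a yv - yv) ∈ C₀ := by
        refine hXY.le ⟨X.sub_mem hz hd1, ?_⟩
        have e : z - (σ a yv - yv) = -(σ b.1 z - z) + (σ b.1 z - σ a yv) + yv := by abel
        rw [e]
        exact Y.add_mem (Y.add_mem (Y.neg_mem hd2) (hC₀Y hd3)) hyv
      show ρ b.1 (ρ a (yv : V ⧸ C₀) - (yv : V ⧸ C₀)) = _
      rw [show ρ a (yv : V ⧸ C₀) - (yv : V ⧸ C₀) = (z : V) from
        (QuotientAddGroup.eq_iff_sub_mem.2 hd4).symm, hb']
      rfl
    have hy₀ : (π u₀) ≠ 0 := fun h => hu₀X (hC₀X ((QuotientAddGroup.eq_zero_iff u₀).1 h))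
    obtain ⟨b, hb, -, z, hz, yv, hyv, -, hbz, hz0⟩ := hfind _ ⟨u₀, hu₀Y, rfl⟩ hy₀
    refine ⟨b, hb, fun y hy => ?_⟩
    rcases eq_or_ne y 0 with rfl | hy0
    · simp
    obtain ⟨b', hb', he, z', hz', yv', hyv', -, hbz', hz'0⟩ := hfind y hy hy0
    suffices b = b' by rw [this]; exact he
    -- both lie in the coset of `a x₀`
    have hcoset : ∀ (c : P) (z₁ : V) (y₁ : V), z₁ ∈ X → z₁ ∉ C₀ → y₁ ∈ Y → σ c z₁ - σ a y₁ ∈ C₀ →
        c⁻¹ * (a * x₀) ∈ M := by
      intro c z₁ y₁ hz₁ hz₁0 hy₁ h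
      by_contra hc
      apply hz₁0
      refine hdisj _ _ hc z₁ hz₁ (σ x₀⁻¹ y₁) (hYX hy₁) ?_
      rwa [apply_mul, apply_apply_inv]
    have h1 := hcoset b z yv hz hz0 hyv hbz
    have h2 := hcoset b' z' yv' hz' hz'0 hyv' hbz'
    by_contra hne
    refine hBM _ (mul_mem (inv_mem hb) hb') (fun e => hne (inv_mul_eq_one.1 e)) ?_
    simpa [mul_assoc] using mul_mem h1 (inv_mem h2)
  obtain ⟨F, hF, hFt, φ, ψ, hcard, hψ⟩ := exists_sl2 (p := p) ρ hρinj
    (fun w => by
      induction w using QuotientAddGroup.induction_on with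
      | _ v => rw [← QuotientAddGroup.mk_nsmul]; exact (QuotientAddGroup.eq_zero_iff _).2 (hpC v))
    (A := A) (B := B) hgen (X := X') (Y := Y') hXY' hsup'
    (fun a ha w hw => by
      obtain ⟨x, hx, rfl⟩ := hw
      exact congrArg QuotientAddGroup.mk (hx.2 a ha))
    (fun a ha w => by
      induction w using QuotientAddGroup.induction_on with
      | _ v => exact ⟨_, hXAX (le_sup_left (b := C₀) (AddSubgroup.subset_closure ⟨a, ha, v, hmemU v, rfl⟩)), rfl⟩)
    (fun b hb w hw => by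
      obtain ⟨x, hx, rfl⟩ := hw
      exact congrArg QuotientAddGroup.mk (hx.2 b hb))
    (fun b hb w => by
      induction w using QuotientAddGroup.induction_on with
      | _ v => exact ⟨_, hYB (AddSubgroup.subset_closure ⟨b, hb, v, hmemU v, rfl⟩), rfl⟩)
    hA1 hY'.symm (hX'.trans hY'.symm) hBcard
    (fun a ha ha1 w hw h => by
      obtain ⟨y, hy, rfl⟩ := hw
      have h3 : σ a y - y ∈ C₀ := QuotientAddGroup.eq_iff_sub_mem.1 h
      exact (QuotientAddGroup.eq_zero_iff y).2 (hXY.le ⟨hgood a ha (hAinj a ha ha1) y (hmemU y) h3, hy⟩))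
    hpair
  refine ⟨F, hF, hFt, φ, ψ.toAddMonoidHom.comp π, hcard,
    ψ.surjective.comp (QuotientAddGroup.mk'_surjective _), fun v => ?_, fun g v => hψ g (v : V ⧸ C₀), ?_⟩
  · show ψ (π v) = 0 ↔ _
    rw [map_eq_zero_iff ψ ψ.injective]
    exact QuotientAddGroup.eq_zero_iff v
  · refine le_antisymm ?_ (sup_le ((AddSubgroup.closure_le _).2 ?_) (fix_anti σ le_top))
    · rw [← hXC]
      refine hXeq.trans (sup_le_sup_right (AddSubgroup.closure_mono ?_) _)
      rintro _ ⟨a, ha, u, -, rfl⟩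
      exact ⟨a, ha, u, rfl⟩
    · rintro _ ⟨a, ha, u, rfl⟩
      exact fun a' ha' => hquad a' ha' a ha u

end Main

/-- The recognition theorem for a module of exponent `p`. -/
theorem exists_natural [Finite P] [Finite V] {p : ℕ} [Fact p.Prime] (hinj : Function.Injective σ)
    (hp0 : ∀ v : V, p • v = 0) (T : Sylow p P) (M : Subgroup P) (hM : IsCoatom M)
    (hTM : (T : Subgroup P) ≤ M)
    (huniq : ∀ N : Subgroup P, IsCoatom N → (T : Subgroup P) ≤ N → N = M)
    (A : Subgroup P) (hAT : A ≤ (T : Subgroup P))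
    (hquad : ∀ a ∈ A, ∀ b ∈ A, ∀ v, σ a (σ b v - v) = σ b v - v)
    (hle : Nat.card V ≤ Nat.card A * Nat.card (fix σ A))
    (hstrict : ∀ A₀ : Subgroup P, A₀ ≤ A → A₀ ≠ ⊥ → A₀ ≠ A →
      Nat.card A₀ * Nat.card (fix σ A₀) < Nat.card A * Nat.card (fix σ A))
    (hT : ∃ v ∈ fix σ (T : Subgroup P), v ∉ fix σ ⊤)
    (hgenA : ∀ x : P, x ∉ M → A ⊔ A.map (MulAut.conj x).toMonoidHom = ⊤) :
    ∃ (F : Type) (_ : Field F) (_ : Fintype F) (φ : P ≃* SL(2, F)) (ψ : V →+ (Fin 2 → F)),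
      Fintype.card F = Nat.card A ∧ Function.Surjective ψ ∧ (∀ v, ψ v = 0 ↔ v ∈ fix σ ⊤) ∧
        (∀ g v, ψ (σ g v) = (φ g).1.mulVec (ψ v)) ∧
        fix σ A = AddSubgroup.closure {v | ∃ a ∈ A, ∃ u, v = σ a u - u} ⊔ fix σ ⊤ :=
  exists_natural_of_smul σ hinj T M hM hTM huniq A hAT hquad hle hstrict hT hgenA
    fun a _ v => by rw [hp0, map_zero]

end CfsgLib.SL2Recognition
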